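import Mathlib
import Cfsg.Agent.Blocks.LocalRing
import Cfsg.Agent.Blocks.ClassScalar
import Cfsg.Agent.Characters.Core
import Cfsg.Agent.Characters.GaloisBasic
import Cfsg.Agent.CharactersDeep.Imprimitivity
import Cfsg.Agent.S0135
import Cfsg.Agent.S0165
import Cfsg.Agent.S0906
import Cfsg.Agent.S0914
import Cfsg.Agent.Nodes.OppDec
import Cfsg.Agent.Nodes.RGDLib
import Cfsg.Agent.Tits.Exchange
import Cfsg.Agent.Nodes.RGDChev
import Cfsg.Agent.S1034
import Cfsg.Agent.Blocks.ExistsModular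
set_option linter.all false

-- part: H143/HigNak
section
/-!
# Higman's criterion and Nakayama's lemma for representations of `p`-defect zero, over `ℂ`

`O = locRing hM` is the localisation of the algebraic integers at `M`. For a complex representation `ρ` of a finite
group `G`, a `p`-subgroup `U` and coefficients `b : G → O` with `Σ_g Σ_h b(h) ρ(g h g⁻¹) = 1`:
if `w` is a `U`-fixed vector, an eigenvector of `T`, and for every `y ∈ G` outside `U n₀ T U` the order of `U ∩ y U y⁻¹`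
is divisible by `p`, then every `U`-fixed vector in the `O`-span of the orbit of `w` is an `O`-multiple of
`Σ_{u ∈ U} ρ(u n₀) w` (`mem_of_fixed`).
-/

set_option autoImplicit false
set_option linter.unusedSectionVars false

namespace Cfsg.Agent.H143.HigNak

open Cfsg Cfsg.Agent.Blocks.LocalRing Representation

variable {G : Type*} [Group G] [Fintype G] {V : Type*} [AddCommGroup V] [Module ℂ V]

/-- The trace `Σ_g g b g⁻¹` in a representation. -/
noncomputable def Hig (ρ : Representation ℂ G V) (b : G → ℂ) (v : V) : V :=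
  ∑ g : G, ∑ h : G, b h • ρ (g * h * g⁻¹) v

section Main

variable {p : ℕ} {M : Ideal AlgInt} (hM : IsPModular p M)
variable (ρ : Representation ℂ G V) (U : Subgroup G) (w : V)

/-- The lattice spanned by the orbit of `w`. -/
noncomputable def Lat : Submodule (locRing hM) V := Submodule.span _ (Set.range fun y : G => ρ y w)

open scoped Classical in
/-- `Σ_{u ∈ U} ρ(u y) w`. -/
noncomputable def F (y : G) : V := ∑ u : U, ρ (u * y) w

/-- The span of the `F y`. -/
noncomputable def NN : Submodule (locRing hM) V := Submodule.span _ (Set.range (F ρ U w))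

variable {ρ U w}

theorem smul_mem_of {N : Submodule (locRing hM) V} {c : ℂ} (hc : MemLocalRing M c) {v : V} (hv : v ∈ N) :
    c • v ∈ N := N.smul_mem (⟨c, hc⟩ : locRing hM) hv

theorem rho_mul (x y : G) (v : V) : ρ (x * y) v = ρ x (ρ y v) := by
  rw [map_mul, Module.End.mul_apply]

theorem orbit_mem (y : G) : ρ y w ∈ Lat hM ρ w := Submodule.subset_span ⟨y, rfl⟩

theorem F_mem (y : G) : F ρ U w y ∈ NN hM ρ U w := Submodule.subset_span ⟨y, rfl⟩

/-- `Σ_u ρ(u z) d` lies in the span of the `F y` for `d` in the lattice. -/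
theorem ave_mem [Fintype U] (z : G) {d : V} (hd : d ∈ Lat hM ρ w) :
    (∑ u : U, ρ ((u : G) * z) d) ∈ NN hM ρ U w := by
  classical
  unfold Lat at hd
  induction hd using Submodule.span_induction with
  | mem x hx =>
    obtain ⟨y, rfl⟩ := hx
    have h1 : (∑ u : U, ρ ((u : G) * z) (ρ y w)) = F ρ U w (z * y) := by
      unfold F
      refine Finset.sum_congr (Finset.ext fun x => by simp) fun u _ => ?_
      rw [← rho_mul, mul_assoc]
    show (∑ u : U, ρ ((u : G) * z) (ρ y w)) ∈ _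
    rw [h1]
    exact F_mem hM _
  | zero => simp
  | add x y _ _ hx hy =>
    simp only [map_add, Finset.sum_add_distrib]
    exact add_mem hx hy
  | smul c x _ hx =>
    have h1 : (∑ u : U, ρ ((u : G) * z) (c • x)) = c • ∑ u : U, ρ ((u : G) * z) x := by
      rw [Finset.smul_sum]
      refine Finset.sum_congr rfl fun u _ => ?_
      exact (ρ ((u : G) * z)).map_smul (c : ℂ) x
    rw [h1]
    exact Submodule.smul_mem _ _ hx

/-- **Higman's criterion.** -/
theorem mem_NN {b : G → ℂ} (hb : ∀ h, MemLocalRing M (b h)) {d : V} (hid : Hig ρ b d = d)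
    (hd : d ∈ Lat hM ρ w) (hU : ∀ u ∈ U, ρ u d = d) : d ∈ NN hM ρ U w := by
  classical
  obtain ⟨R, hR, -⟩ := Subgroup.exists_isComplement_right U (1 : G)
  let e : (U × R) ≃ G := Equiv.ofBijective (fun x : U × R => (x.1 : G) * (x.2 : G)) hR
  have : Fintype R := Fintype.ofFinite _
  have h1 : d = ∑ r : R, ∑ h : G, b h • ∑ u : U, ρ ((u : G) * ((r : G) * h * (r : G)⁻¹)) d := by
    conv_lhs => rw [← hid]
    unfold Hig
    rw [← Equiv.sum_comp e, Fintype.sum_prod_type, Finset.sum_comm]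
    refine Finset.sum_congr rfl fun r _ => ?_
    rw [Finset.sum_comm]
    refine Finset.sum_congr rfl fun h _ => ?_
    rw [Finset.smul_sum]
    refine Finset.sum_congr rfl fun u _ => ?_
    show b h • ρ ((u : G) * (r : G) * h * ((u : G) * (r : G))⁻¹) d = _
    congr 1
    have h2 : (u : G) * (r : G) * h * ((u : G) * (r : G))⁻¹ = ((u : G) * ((r : G) * h * (r : G)⁻¹)) * (u : G)⁻¹ := by
      group
    rw [h2, rho_mul, hU _ (inv_mem u.2)]
  rw [h1]
  refine sum_mem fun r _ => sum_mem fun h _ => smul_mem_of hM (hb h) ?_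
  exact ave_mem hM _ hd

theorem rho_F (y : G) {u : G} (hu : u ∈ U) : ρ u (F ρ U w y) = F ρ U w y := by
  classical
  unfold F
  rw [map_sum]
  refine Fintype.sum_equiv (Equiv.mulLeft (⟨u, hu⟩ : U)) _ _ fun x => ?_
  rw [← rho_mul]
  congr 2
  simp [mul_assoc]

/-- `F y = |U ∩ y U y⁻¹| d` with `d` in the lattice. -/
theorem exists_F_eq (hU : ∀ u ∈ U, ρ u w = w) (y : G) :
    ∃ d ∈ Lat hM ρ w, F ρ U w y = (Nat.card ↥(U ⊓ U.map (MulAut.conj y).toMonoidHom)) • d := by
  classical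
  set C : Subgroup G := U ⊓ U.map (MulAut.conj y).toMonoidHom with hC
  obtain ⟨K, hK, -⟩ := Subgroup.exists_isComplement_left (C.subgroupOf U) (1 : U)
  let e : (K × (C.subgroupOf U)) ≃ U :=
    Equiv.ofBijective (fun x : K × (C.subgroupOf U) => (x.1 : U) * (x.2 : U)) hK
  have : Fintype K := Fintype.ofFinite _
  refine ⟨∑ k : K, ρ (((k : U) : G) * y) w, sum_mem fun k _ => orbit_mem hM _, ?_⟩
  unfold F
  rw [← Equiv.sum_comp e, Fintype.sum_prod_type, Finset.smul_sum]
  refine Finset.sum_congr rfl fun k _ => ?_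
  have h1 : ∀ c : (C.subgroupOf U), ρ (((e (k, c) : U) : G) * y) w = ρ (((k : U) : G) * y) w := by
    intro c
    have h2 : (((c : U) : G)) ∈ C := c.2
    obtain ⟨v, hv, hvc⟩ := (Subgroup.mem_map.1 (Subgroup.mem_inf.1 h2).2)
    have h3 : ((c : U) : G) = y * v * y⁻¹ := by rw [← hvc]; simp [MulAut.conj_apply]
    have h4 : ((e (k, c) : U) : G) * y = (((k : U) : G) * y) * v := by
      show ((((k : U) * (c : U)) : U) : G) * y = _
      rw [Subgroup.coe_mul, h3]
      group
    rw [h4, rho_mul, hU v hv]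
  rw [Finset.sum_congr rfl fun c _ => h1 c, Finset.sum_const, Finset.card_univ, ← Nat.card_eq_fintype_card]
  congr 1
  exact Nat.card_congr (Subgroup.subgroupOfEquivOfLe (inf_le_left : C ≤ U)).toEquiv

variable {b : G → ℂ} (hb : ∀ h, MemLocalRing M (b h)) (hid : ∀ v, Hig ρ b v = v) (hw : ∀ u ∈ U, ρ u w = w)
  {T : Subgroup G} {lam : G → ℂ} (hT : ∀ t ∈ T, ρ t w = lam t • w) (hlam : ∀ t ∈ T, MemLocalRing M (lam t))
  {n0 : G} (hbig : ∀ y : G, (∃ u ∈ U, ∃ t ∈ T, ∃ u' ∈ U, y = u * n0 * t * u') ∨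
    p ∣ Nat.card ↥(U ⊓ U.map (MulAut.conj y).toMonoidHom))

include hb hid hw hT hlam hbig

theorem NN_le : NN hM ρ U w ≤ Submodule.span (locRing hM) {F ρ U w n0} := by
  classical
  have : Fact p.Prime := ⟨hM.1⟩
  have hloc := isLocalRing hM
  let P : locRing hM := ⟨(p : ℂ), memLocalRing_natCast hM p⟩
  have hPn : ¬ IsUnit P := by
    rw [isUnit_locRing_iff, not_not]
    exact memLocalIdeal_prime hM
  refine Submodule.le_of_le_smul_of_le_jacobson_bot (I := Ideal.span {P})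
    (Submodule.fg_span (Set.finite_range _)) ?_ ?_
  · rw [Ideal.span_singleton_le_iff_mem]
    rw [IsLocalRing.jacobson_eq_maximalIdeal ⊥ bot_ne_top]
    exact (IsLocalRing.mem_maximalIdeal _).2 hPn
  · conv_lhs => unfold NN
    rw [Submodule.span_le]
    rintro _ ⟨y, rfl⟩
    rcases hbig y with ⟨u, hu, t, ht, u', hu', rfl⟩ | hy
    · refine Submodule.mem_sup_left ?_
      have h1 : F ρ U w (u * n0 * t * u') = lam t • F ρ U w n0 := by
        unfold F
        rw [Finset.smul_sum]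
        refine Fintype.sum_equiv (Equiv.mulRight (⟨u, hu⟩ : U)) _ _ fun x => ?_
        have h2 : (x : G) * (u * n0 * t * u') = ((((Equiv.mulRight (⟨u, hu⟩ : U)) x : U) : G) * n0) * t * u' := by
          simp [mul_assoc]
        rw [h2, rho_mul, hw u' hu', rho_mul, hT t ht, map_smul]
      show F ρ U w (u * n0 * t * u') ∈ _
      rw [h1]
      exact smul_mem_of hM (hlam t ht) (Submodule.subset_span rfl)
    · refine Submodule.mem_sup_right ?_
      obtain ⟨d, hd, he⟩ := exists_F_eq hM hw y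
      obtain ⟨k, hk⟩ := hy
      have hm : Nat.card ↥(U ⊓ U.map (MulAut.conj y).toMonoidHom) ≠ 0 := Nat.card_pos.ne'
      have hdU : ∀ u ∈ U, ρ u d = d := by
        intro u hu
        have h1 := rho_F (ρ := ρ) (w := w) y hu
        rw [he, map_nsmul] at h1
        have h2 : (Nat.card ↥(U ⊓ U.map (MulAut.conj y).toMonoidHom) : ℂ) • (ρ u d - d) = 0 := by
          rw [smul_sub, Nat.cast_smul_eq_nsmul, Nat.cast_smul_eq_nsmul, h1, sub_self]
        rcases smul_eq_zero.1 h2 with h3 | h3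
        · exact absurd (Nat.cast_eq_zero.1 h3) hm
        · exact sub_eq_zero.1 h3
      have hdN := mem_NN hM hb (hid d) hd hdU
      show F ρ U w y ∈ _
      rw [he, hk, mul_comm, mul_nsmul]
      have h3 : p • (k • d) = P • (k • d) := by
        show p • (k • d) = (p : ℂ) • (k • d)
        rw [Nat.cast_smul_eq_nsmul]
      have h4 : k • d ∈ NN hM ρ U w := nsmul_mem hdN k
      have h5 : P • (k • d) ∈ Ideal.span {P} • NN hM ρ U w :=
        Submodule.smul_mem_smul (Ideal.mem_span_singleton_self P) h4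
      rwa [← h3] at h5

/-- Every `U`-fixed vector of the lattice is a multiple of `F n0`. -/
theorem mem_of_fixed {d : V} (hd : d ∈ Lat hM ρ w) (hdU : ∀ u ∈ U, ρ u d = d) :
    ∃ c : ℂ, MemLocalRing M c ∧ d = c • F ρ U w n0 := by
  have h1 := NN_le hM hb hid hw hT hlam hbig (mem_NN hM hb (hid d) hd hdU)
  rw [Submodule.mem_span_singleton] at h1
  obtain ⟨c, hc⟩ := h1
  exact ⟨c, c.2, hc.symm⟩

end Main

end Cfsg.Agent.H143.HigNak
end

-- part: H143/DefZero
section
/-!
# Irreducible characters of `p`-defect zero of a group with a split `(B, N)`-pair of characteristic `p`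

* `exists_coeffs` : for `χ` of `p`-defect zero, `1_χ = Σ_g Σ_h b(h) g h g⁻¹` with `b : G → O`;
* `fixed_line` : the `U`-fixed vectors of a representation of defect zero form a line;
* `Dat` : the data (`U`, `T`, `n₀`, `nᵢ`, `Xᵢ`, rank one relations); `lam_eq_one` : `T` is trivial on the line;
* `eq_of_defect_zero` : two irreducible characters of `p`-defect zero are equal.
-/

set_option autoImplicit false
set_option linter.unusedSectionVars false

namespace Cfsg.Agent.H143.DefZero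

open Cfsg Cfsg.Agent.Blocks.LocalRing Cfsg.Agent.H143.HigNak Representation

section Coeffs

variable {G : Type*} [Group G] [Fintype G]

theorem Hig_eq {V : Type*} [AddCommGroup V] [Module ℂ V] [FiniteDimensional ℂ V] (ρ : Representation ℂ G V)
    (hρ : ρ.IsIrreducible) (b : G → ℂ) (v : V) :
    Hig ρ b v = (((Nat.card G : ℂ) * ∑ h : G, b h * ρ.character h) / ρ.character 1) • v := by
  classical
  have h1 : Hig ρ b v = (∑ x : G, (∑ g : G, b (g⁻¹ * x * g)) • ρ x : Module.End ℂ V) v := by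
    unfold Hig
    rw [LinearMap.sum_apply]
    have h0 : ∀ x : G, ((∑ g : G, b (g⁻¹ * x * g)) • ρ x : Module.End ℂ V) v = ∑ g : G, b (g⁻¹ * x * g) • ρ x v := by
      intro x
      rw [LinearMap.smul_apply, Finset.sum_smul]
    rw [Finset.sum_congr rfl fun x _ => h0 x]
    conv_rhs => rw [Finset.sum_comm]
    refine Finset.sum_congr rfl fun g _ => ?_
    refine Fintype.sum_equiv (MulAut.conj g).toEquiv _ _ fun h => ?_
    show b h • ρ (g * h * g⁻¹) v = b (g⁻¹ * (g * h * g⁻¹) * g) • ρ (g * h * g⁻¹) v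
    congr 2
    group
  rw [h1, Blocks.ClassScalar.sum_smul_eq ρ hρ (fun x => ∑ g : G, b (g⁻¹ * x * g))]
  · rw [LinearMap.smul_apply, Module.End.one_apply]
    congr 2
    simp only [Finset.sum_mul]
    rw [Finset.sum_comm]
    have h2 : ∀ g : G, (∑ x : G, b (g⁻¹ * x * g) * ρ.character x) = ∑ h : G, b h * ρ.character h := by
      intro g
      symm
      refine Fintype.sum_equiv (MulAut.conj g).toEquiv _ _ fun h => ?_
      show b h * ρ.character h = b (g⁻¹ * (g * h * g⁻¹) * g) * ρ.character (g * h * g⁻¹)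
      rw [Blocks.ClassScalar.character_conj]
      congr 2
      group
    rw [Finset.sum_congr rfl fun g _ => h2 g, Finset.sum_const, Finset.card_univ, nsmul_eq_mul,
      Nat.card_eq_fintype_card]
  · intro g h
    refine Fintype.sum_equiv (Equiv.mulLeft h⁻¹) _ _ fun x => ?_
    show b (x⁻¹ * (h * g * h⁻¹) * x) = b ((h⁻¹ * x)⁻¹ * g * (h⁻¹ * x))
    congr 1
    group

/-- Convolution of irreducible characters. -/
theorem conv {V : Type*} [AddCommGroup V] [Module ℂ V] [FiniteDimensional ℂ V] (ρ : Representation ℂ G V)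
    (hρ : ρ.IsIrreducible) {χ : G → ℂ} (hχ : IsIrrCharacter G χ) (g0 : G) :
    ∑ h : G, χ (h⁻¹ * g0) * ρ.character h =
      if ρ.character = χ then (Nat.card G : ℂ) * χ g0 / χ 1 else 0 := by
  classical
  have hψ : IsIrrCharacter G ρ.character := Characters.Core.isIrrCharacter_of_rep ρ hρ
  have h1 := Blocks.ClassScalar.sum_smul_eq ρ hρ (fun x => χ x⁻¹) (fun g h => by
    show χ (h * g * h⁻¹)⁻¹ = χ g⁻¹
    have h2 := Characters.Core.isIrr_isClassFunction hχ g⁻¹ h
    rw [← h2]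
    congr 1
    group)
  have h2 := congrArg (fun f : Module.End ℂ V => LinearMap.trace ℂ V (ρ g0 * f)) h1
  simp only [Finset.mul_sum, mul_smul_comm, mul_one, map_sum, map_smul] at h2
  have h3 : ∀ x : G, LinearMap.trace ℂ V (ρ g0 * ρ x) = ρ.character (g0 * x) := by
    intro x
    rw [← map_mul]; rfl
  have h4 : (∑ h : G, χ (h⁻¹ * g0) * ρ.character h) = ∑ x : G, χ x⁻¹ * ρ.character (g0 * x) := by
    symm
    refine Fintype.sum_equiv (Equiv.mulLeft g0) _ _ fun x => ?_
    show χ x⁻¹ * ρ.character (g0 * x) = χ ((g0 * x)⁻¹ * g0) * ρ.character (g0 * x)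
    congr 2
    group
  have h5 : (∑ x : G, χ x⁻¹ * ρ.character x) = (Nat.card G : ℂ) * classInner ρ.character χ := by
    rw [Characters.Core.classInner_def, ← mul_assoc, mul_inv_cancel₀ Characters.Core.card_ne_zero_complex, one_mul]
    refine Finset.sum_congr rfl fun x _ => ?_
    rw [Characters.Core.isCharacter_apply_inv (Characters.Core.isIrr_isCharacter hχ), mul_comm]
  rw [h4]
  simp only [h3, smul_eq_mul] at h2
  rw [h2, h5, Characters.Core.classInner_irr hψ hχ]
  have h6 : LinearMap.trace ℂ V (ρ g0) = ρ.character g0 := rfl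
  rw [h6]
  split_ifs with h
  · rw [h]; ring
  · ring

/-- **Higman coefficients of a character of defect zero.** -/
theorem exists_coeffs {p : ℕ} [Fact p.Prime] {M : Ideal AlgInt} (hM : IsPModular p M) {χ : G → ℂ}
    (hχ : IsIrrCharacter G χ) (hdef : ¬ p ∣ Nat.card G / charDegree χ) :
    ∃ b : G → ℂ, (∀ h, MemLocalRing M (b h)) ∧
      ∀ (n : ℕ) (ρ : Representation ℂ G (Fin n → ℂ)), ρ.IsIrreducible → ∀ v : Fin n → ℂ,
        Hig ρ b v = if ρ.character = χ then v else 0 := by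
  classical
  have hB : blockOf M χ = {⟨χ, hχ⟩} := (S0914.result p M hM ⟨χ, hχ⟩).1 hdef
  obtain ⟨g, hg1, hg2, -⟩ := S0906.result p M hM (blockOf M χ) ⟨⟨χ, hχ⟩, rfl⟩
  rw [hB] at hg1 hg2
  have hco : blockCoeff ({⟨χ, hχ⟩} : Set (IrrCharacter G)) g = (Nat.card G : ℂ)⁻¹ * (χ 1 * χ g⁻¹) := by
    unfold blockCoeff
    rw [finsum_mem_singleton, Characters.Core.isCharacter_apply_inv (Characters.Core.isIrr_isCharacter hχ)]
  rw [hco] at hg1 hg2
  -- the degree
  obtain ⟨d, hd0, hd⟩ := Characters.Core.isIrr_apply_one hχ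
  have hcd : charDegree χ = d := by unfold charDegree; rw [hd]; simp
  have hGc : (Nat.card G : ℂ) ≠ 0 := Characters.Core.card_ne_zero_complex
  have hdvd : d ∣ Nat.card G := by
    obtain ⟨n, ρ, hρ, rfl⟩ := hχ
    have h1 := S0135.result ρ
    have h2 : (Module.finrank ℂ (Fin n → ℂ) : ℂ) = d := by rw [← Representation.char_one ρ]; exact hd
    have h3 : Module.finrank ℂ (Fin n → ℂ) = d := by exact_mod_cast h2
    rwa [h3] at h1
  obtain ⟨n, hn⟩ := hdvd
  have hnq : Nat.card G / charDegree χ = n := by rw [hcd, hn]; exact Nat.mul_div_cancel_left _ hd0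
  rw [hnq] at hdef
  have hd0' : (d : ℂ) ≠ 0 := Nat.cast_ne_zero.2 hd0.ne'
  have hn0 : n ≠ 0 := by rintro rfl; exact hdef (dvd_zero _)
  have hn0' : (n : ℂ) ≠ 0 := Nat.cast_ne_zero.2 hn0
  have hGn : (Nat.card G : ℂ) = d * n := by rw [hn]; push_cast; ring
  set β : ℂ := (Nat.card G : ℂ)⁻¹ * (χ 1 * χ g⁻¹) with hβ
  have hβ0 : β ≠ 0 := ne_zero_of_not_memLocalIdeal hM hg2
  have hβχ : χ g⁻¹ = n * β := by
    rw [hβ, hd, hGn]
    field_simp
  have hnR : MemLocalRing M (n : ℂ) := memLocalRing_natCast hM n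
  have hnI : ¬ MemLocalIdeal M (n : ℂ) := by rwa [memLocalIdeal_natCast_iff hM]
  set c : ℂ := ((n : ℂ)⁻¹) ^ 3 * β⁻¹ with hc
  have hcR : MemLocalRing M c :=
    memLocalRing_mul hM (memLocalRing_pow hM (memLocalRing_inv hnR hnI) 3) (memLocalRing_inv hg1 hg2)
  refine ⟨fun h => c * χ (h⁻¹ * g⁻¹), fun h => memLocalRing_mul hM hcR ?_, ?_⟩
  · exact memLocalRing_of_isIntegral hM (Characters.GaloisBasic.isIntegral_apply
      (Characters.Core.isIrr_isCharacter hχ) _)
  · intro m ρ hρ v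
    rw [Hig_eq ρ hρ]
    have h1 := conv ρ hρ hχ g⁻¹
    have h2 : (∑ h : G, c * χ (h⁻¹ * g⁻¹) * ρ.character h) = c * ∑ h : G, χ (h⁻¹ * g⁻¹) * ρ.character h := by
      rw [Finset.mul_sum]
      exact Finset.sum_congr rfl fun h _ => by ring
    rw [h2, h1]
    split_ifs with h
    · have h3 : (Nat.card G : ℂ) * (c * ((Nat.card G : ℂ) * χ g⁻¹ / χ 1)) / ρ.character 1 = 1 := by
        rw [h, hβχ, hd, hGn, hc]
        field_simp
      rw [h3, one_smul]
    · rw [mul_zero, mul_zero, zero_div, zero_smul]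

/-- Eigenvalues of sums of group elements are algebraic integers. -/
theorem isIntegral_eig {V : Type*} [AddCommGroup V] [Module ℂ V] (ρ : Representation ℂ G V) {ι : Type*}
    (s : Finset ι) (g : ι → G) {w : V} (hw : w ≠ 0) {κ : ℂ} (h : ∑ i ∈ s, ρ (g i) w = κ • w) :
    IsIntegral ℤ κ := by
  have h1 : IsIntegral ℤ (∑ i ∈ s, MonoidAlgebra.single (g i) (1 : ℤ)) := IsIntegral.of_finite ℤ _
  have h2 := h1.map (MonoidAlgebra.lift ℤ (Module.End ℂ V) G ρ)
  obtain ⟨P, hP, hPe⟩ := h2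
  refine ⟨P, hP, ?_⟩
  set f : Module.End ℂ V := MonoidAlgebra.lift ℤ (Module.End ℂ V) G ρ (∑ i ∈ s, MonoidAlgebra.single (g i) (1 : ℤ))
    with hf
  have hfw : f w = κ • w := by
    rw [hf, map_sum, LinearMap.sum_apply, ← h]
    refine Finset.sum_congr rfl fun i _ => ?_
    rw [MonoidAlgebra.lift_single, one_smul]
  have h3 : Module.End.HasEigenvector f κ w := ⟨Module.End.mem_eigenspace_iff.2 hfw, hw⟩
  have h4 := Module.End.aeval_apply_of_hasEigenvector (p := P.map (algebraMap ℤ ℂ)) h3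
  rw [Polynomial.aeval_map_algebraMap] at h4
  have h5 : (Polynomial.aeval f) P = 0 := hPe
  rw [h5, LinearMap.zero_apply] at h4
  have h6 := (smul_eq_zero.1 h4.symm).resolve_right hw
  rw [Polynomial.eval_map] at h6
  exact h6

end Coeffs

section Fixed

variable {G : Type*} [Group G] [Fintype G] {p : ℕ} [hp : Fact p.Prime]

theorem exists_fixed {n : ℕ} (ρ : Representation ℂ G (Fin n → ℂ)) (hρ : ρ.IsIrreducible)
    (hdef : ¬ p ∣ Nat.card G / charDegree ρ.character) (U : Subgroup G) (hU : IsPGroup p U) :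
    ∃ v : Fin n → ℂ, v ≠ 0 ∧ ∀ u ∈ U, ρ u v = v := by
  classical
  have hχ : IsIrrCharacter G ρ.character := ⟨n, ρ, hρ, rfl⟩
  obtain ⟨d, hd0, hd⟩ := Characters.Core.isIrr_apply_one hχ
  have hcd : charDegree ρ.character = d := by unfold charDegree; rw [hd]; simp
  have h2 : (Module.finrank ℂ (Fin n → ℂ) : ℂ) = d := by rw [← Representation.char_one ρ]; exact hd
  have h3 : Module.finrank ℂ (Fin n → ℂ) = d := by exact_mod_cast h2
  have hdvd : d ∣ Nat.card G := by
    have h1 := S0135.result ρ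
    rwa [h3] at h1
  obtain ⟨m, hm⟩ := hdvd
  have hnq : Nat.card G / charDegree ρ.character = m := by rw [hcd, hm]; exact Nat.mul_div_cancel_left _ hd0
  rw [hnq] at hdef
  set k := (Nat.card G).factorization p with hk
  have hGne : Nat.card G ≠ 0 := Nat.card_pos.ne'
  have hk1 : p ^ k ∣ Nat.card G := Nat.ordProj_dvd _ _
  have hk2 : ¬ p ^ (k + 1) ∣ Nat.card G := Nat.pow_succ_factorization_not_dvd hGne hp.out
  have hk3 : p ^ k ∣ d := by
    have h4 : Nat.Coprime (p ^ k) m := Nat.Coprime.pow_left _ ((Nat.Prime.coprime_iff_not_dvd hp.out).2 hdef)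
    rw [hm] at hk1
    exact h4.dvd_of_dvd_mul_right hk1
  have hvan : ∀ x : G, p ∣ orderOf x → ρ.character x = 0 := fun x hx =>
    S0165.result ρ p k hp.out hk1 hk2 (by rw [h3]; exact hk3) x hx
  set E : Module.End ℂ (Fin n → ℂ) := ∑ u : U, ρ u with hE
  have htr : LinearMap.trace ℂ _ E = d := by
    rw [hE, map_sum]
    have h5 : ∀ u : U, LinearMap.trace ℂ _ (ρ (u : G)) = if u = 1 then (d : ℂ) else 0 := by
      intro u
      have h6 : LinearMap.trace ℂ _ (ρ (u : G)) = ρ.character (u : G) := rfl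
      rw [h6]
      split_ifs with h
      · rw [h, Subgroup.coe_one]; exact hd
      · apply hvan
        rw [Subgroup.orderOf_coe]
        obtain ⟨j, hj⟩ := (IsPGroup.iff_orderOf.1 hU) u
        rw [hj]
        have : j ≠ 0 := by
          rintro rfl
          rw [pow_zero, orderOf_eq_one_iff] at hj
          exact h hj
        exact dvd_pow_self p this
    rw [Finset.sum_congr rfl fun u _ => h5 u]
    simp
  have hE0 : E ≠ 0 := by
    intro h
    rw [h, map_zero] at htr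
    exact hd0.ne' (by exact_mod_cast htr.symm)
  obtain ⟨v, hv⟩ : ∃ v, E v ≠ 0 := by
    by_contra hcon
    push Not at hcon
    exact hE0 (LinearMap.ext hcon)
  refine ⟨E v, hv, fun u hu => ?_⟩
  rw [hE, LinearMap.sum_apply, map_sum]
  refine Fintype.sum_equiv (Equiv.mulLeft (⟨u, hu⟩ : U)) _ _ fun x => ?_
  rw [← rho_mul]
  rfl

/-- A `T`-eigenvector among the `U`-fixed vectors. -/
theorem exists_eig {V : Type*} [AddCommGroup V] [Module ℂ V] [FiniteDimensional ℂ V] (ρ : Representation ℂ G V)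
    (U T : Subgroup G) (hab : ∀ s ∈ T, ∀ t ∈ T, s * t = t * s) (hnor : ∀ t ∈ T, ∀ u ∈ U, t * u * t⁻¹ ∈ U)
    (hfix : ∃ v : V, v ≠ 0 ∧ ∀ u ∈ U, ρ u v = v) :
    ∃ (lam : G → ℂ) (w : V), w ≠ 0 ∧ (∀ u ∈ U, ρ u w = w) ∧ ∀ t ∈ T, ρ t w = lam t • w := by
  classical
  let W : Submodule ℂ V :=
    { carrier := {v | ∀ u ∈ U, ρ u v = v}
      add_mem' := fun {a b} ha hb u hu => by rw [map_add, ha u hu, hb u hu]
      zero_mem' := fun u _ => map_zero _
      smul_mem' := fun c a ha u hu => by rw [map_smul, ha u hu] }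
  have hWT : ∀ t ∈ T, ∀ v ∈ W, ρ t v ∈ W := by
    intro t ht v hv u hu
    have h1 : u * t = t * (t⁻¹ * u * t) := by group
    rw [← rho_mul, h1, rho_mul]
    have h2 := hnor t⁻¹ (inv_mem ht) u hu
    rw [inv_inv] at h2
    rw [hv _ h2]
  let σ : Representation ℂ T W :=
    { toFun := fun t => (ρ (t : G)).restrict (p := W) (q := W) (hWT t t.2)
      map_one' := by
        ext v
        simp
      map_mul' := fun s t => by
        ext v
        simp }
  obtain ⟨v, hv0, hv⟩ := hfix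
  have : Nontrivial W := ⟨⟨⟨v, hv⟩, 0, fun h => hv0 (congrArg Subtype.val h)⟩⟩
  obtain ⟨lam, w, hw0, hw⟩ := CharactersDeep.Imprimitivity.exists_common_eigenvector σ ⊤ (by
    intro a _ b _
    rw [← map_mul, ← map_mul]
    congr 1
    exact Subtype.ext (hab a a.2 b b.2))
  refine ⟨fun g => if h : g ∈ T then lam ⟨g, h⟩ else 0, w, fun h => hw0 (Subtype.ext h), w.2, fun t ht => ?_⟩
  have h1 := congrArg Subtype.val (hw ⟨t, ht⟩ (Subgroup.mem_top _))
  simp only [dif_pos ht]
  exact h1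

end Fixed


section Line

variable {G : Type*} [Group G] [Fintype G] {p : ℕ} {M : Ideal AlgInt} (hM : IsPModular p M)
  {V : Type*} [AddCommGroup V] [Module ℂ V] {ρ : Representation ℂ G V} {b : G → ℂ}
  {U T : Subgroup G} {n0 : G} {lam : G → ℂ} {w : V}
  (hbig : ∀ y : G, (∃ u ∈ U, ∃ t ∈ T, ∃ u' ∈ U, y = u * n0 * t * u') ∨
    p ∣ Nat.card ↥(U ⊓ U.map (MulAut.conj y).toMonoidHom))
  (hb : ∀ h, MemLocalRing M (b h)) (hid : ∀ v, Hig ρ b v = v) (hw0 : w ≠ 0) (hw : ∀ u ∈ U, ρ u w = w)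
  (hT : ∀ t ∈ T, ρ t w = lam t • w)

theorem lam_mul (hw0 : w ≠ 0) (hT : ∀ t ∈ T, ρ t w = lam t • w) :
    (∀ s ∈ T, ∀ t ∈ T, lam (s * t) = lam s * lam t) ∧ ∀ t ∈ T, lam t ^ Nat.card G = 1 := by
  have h1 := (CharactersDeep.Imprimitivity.lam_mul_of_eigenvector ρ T lam hw0 hT)
  refine ⟨h1.1, fun t ht => ?_⟩
  have h2 : ∀ k : ℕ, lam (t ^ k) = lam t ^ k := by
    intro k
    induction k with
    | zero =>
      have h3 := hT 1 (one_mem _)
      rw [map_one, Module.End.one_apply] at h3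
      rw [pow_zero, pow_zero]
      have h4 : (lam 1 - 1) • w = 0 := by rw [sub_smul, one_smul, ← h3, sub_self]
      exact sub_eq_zero.1 ((smul_eq_zero.1 h4).resolve_right hw0)
    | succ k ih => rw [pow_succ, h1.1 _ (pow_mem ht k) _ ht, ih, pow_succ]
  rw [← h2, Nat.card_eq_fintype_card, pow_card_eq_one]
  have := h2 0
  rwa [pow_zero, pow_zero] at this

theorem lam_int (hw0 : w ≠ 0) (hT : ∀ t ∈ T, ρ t w = lam t • w) {t : G} (ht : t ∈ T) : IsIntegral ℤ (lam t) := by
  have h := (lam_mul hw0 hT).2 t ht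
  refine IsIntegral.of_pow (n := Nat.card G) Nat.card_pos ?_
  rw [h]
  exact isIntegral_one

include hM hbig hb hid hw0 hw hT

/-- `w` is a multiple of `F n0` and `F n0` spans the `U`-fixed vectors in the lattice. -/
theorem mem_line {d : V} (hd : d ∈ Lat hM ρ w) (hdU : ∀ u ∈ U, ρ u d = d) :
    ∃ c : ℂ, MemLocalRing M c ∧ d = c • F ρ U w n0 :=
  mem_of_fixed hM hb hid hw hT (fun _ ht => memLocalRing_of_isIntegral hM (lam_int hw0 hT ht)) hbig hd hdU

/-- If `F n0` is a multiple `κ w` of `w`, then `κ` is a unit. -/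
theorem kappa {κ : ℂ} (hκ : F ρ U w n0 = κ • w) : IsIntegral ℤ κ ∧ ¬ MemLocalIdeal M κ := by
  classical
  have h1 : IsIntegral ℤ κ := by
    refine isIntegral_eig ρ (Finset.univ : Finset U) (fun u => (u : G) * n0) hw0 ?_
    rw [← hκ]
    unfold F
    exact Finset.sum_congr (Finset.ext fun x => by simp) fun _ _ => rfl
  refine ⟨h1, fun h2 => ?_⟩
  obtain ⟨c, hc, he⟩ := mem_line hM hbig hb hid hw0 hw hT (by simpa using orbit_mem hM (ρ := ρ) (w := w) (1 : G)) hw
  rw [hκ, smul_smul] at he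
  have h3 : (c * κ - 1) • w = 0 := by rw [sub_smul, one_smul, ← he, sub_self]
  have h4 : c * κ = 1 := sub_eq_zero.1 ((smul_eq_zero.1 h3).resolve_right hw0)
  have h5 := memLocalIdeal_mul_left hM hc h2
  rw [h4] at h5
  exact not_memLocalIdeal_one hM h5

/-- **The `U`-fixed vectors of an irreducible representation of defect zero form a line.** -/
theorem fixed_line (hρ : ρ.IsIrreducible) {v : V} (hv : ∀ u ∈ U, ρ u v = v) : ∃ a : ℂ, v = a • w := by
  classical
  -- the span of the orbit of `w` is everything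
  let S : Subrepresentation ρ :=
    { toSubmodule := Submodule.span ℂ (Set.range fun y : G => ρ y w)
      apply_mem_toSubmodule := by
        intro g x hx
        refine Submodule.span_induction ?_ ?_ ?_ ?_ hx
        · rintro _ ⟨y, rfl⟩
          show ρ g (ρ y w) ∈ _
          rw [← rho_mul]
          exact Submodule.subset_span ⟨g * y, rfl⟩
        · rw [map_zero]; exact zero_mem _
        · intro a c _ _ ha hc
          rw [map_add]; exact add_mem ha hc
        · intro a c _ hc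
          rw [map_smul]; exact Submodule.smul_mem _ _ hc }
  have hS : S = ⊤ := by
    rcases hρ.eq_bot_or_eq_top S with h | h
    · exfalso
      have h1 : w ∈ S.toSubmodule := by
        have := Submodule.subset_span (R := ℂ) (s := Set.range fun y : G => ρ y w) ⟨1, rfl⟩
        simpa using this
      rw [h] at h1
      exact hw0 ((Submodule.mem_bot ℂ).1 h1)
    · exact h
  have hvS : v ∈ Submodule.span ℂ (Set.range fun y : G => ρ y w) := by
    have h1 : v ∈ S.toSubmodule := by rw [hS]; trivial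
    exact h1
  have key : ∀ x ∈ Submodule.span ℂ (Set.range fun y : G => ρ y w), ∃ a : ℂ, (∑ u : U, ρ (u : G) x) = a • F ρ U w n0 := by
    intro x hx
    induction hx using Submodule.span_induction with
    | mem x hx =>
      obtain ⟨y, rfl⟩ := hx
      have h1 : (∑ u : U, ρ (u : G) (ρ y w)) = F ρ U w y := by
        unfold F
        refine Finset.sum_congr (Finset.ext fun x => by simp) fun u _ => ?_
        rw [← rho_mul]
      have h2 := NN_le hM hb hid hw hT (fun _ ht => memLocalRing_of_isIntegral hM (lam_int hw0 hT ht)) hbig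
        (F_mem hM (ρ := ρ) (U := U) (w := w) y)
      rw [Submodule.mem_span_singleton] at h2
      obtain ⟨c, hc⟩ := h2
      exact ⟨c, by rw [h1, ← hc]; rfl⟩
    | zero => exact ⟨0, by simp⟩
    | add x y _ _ hx hy =>
      obtain ⟨a, ha⟩ := hx
      obtain ⟨c, hc⟩ := hy
      exact ⟨a + c, by simp only [map_add, Finset.sum_add_distrib]; rw [ha, hc, add_smul]⟩
    | smul a x _ hx =>
      obtain ⟨c, hc⟩ := hx
      exact ⟨a * c, by simp only [map_smul]; rw [← Finset.smul_sum, hc, smul_smul]⟩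
  obtain ⟨a, ha⟩ := key v hvS
  have h1 : (∑ u : U, ρ (u : G) v) = (Nat.card U : ℂ) • v := by
    rw [Finset.sum_congr rfl fun u _ => hv u.1 u.2, Finset.sum_const, Finset.card_univ, Nat.cast_smul_eq_nsmul,
      Nat.card_eq_fintype_card]
  rw [h1] at ha
  have hU0 : (Nat.card U : ℂ) ≠ 0 := Nat.cast_ne_zero.2 Nat.card_pos.ne'
  -- `w` itself
  obtain ⟨c, hc, he⟩ := mem_line hM hbig hb hid hw0 hw hT (by simpa using orbit_mem hM (ρ := ρ) (w := w) (1 : G)) hw
  have hc0 : c ≠ 0 := by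
    rintro rfl
    rw [zero_smul] at he
    exact hw0 he
  refine ⟨(Nat.card U : ℂ)⁻¹ * a * c⁻¹, ?_⟩
  have h2 : F ρ U w n0 = c⁻¹ • w := by
    rw [eq_inv_smul_iff₀ hc0]
    exact he.symm
  rw [h2] at ha
  rw [mul_assoc, mul_smul, mul_smul, ← ha, smul_smul, inv_mul_cancel₀ hU0, one_smul]

end Line


/-- The data of a split `(B, N)`-pair of characteristic `p`: `n0` is the longest element, `n i` a simple reflection,
`X i` the simple root group, `VV i = U ∩ U ^ (n i)`, and `n i x (n i)⁻¹ ∈ X i (tt i x) (n i) X i`. -/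
structure Dat {G : Type*} [Group G] (p : ℕ) (U T : Subgroup G) (n0 : G) {I : Type*} (n : I → G)
    (X VV : I → Subgroup G) (tt : I → G → G) : Prop where
  pU : IsPGroup p U
  ab : ∀ s ∈ T, ∀ t ∈ T, s * t = t * s
  nor : ∀ t ∈ T, ∀ u ∈ U, t * u * t⁻¹ ∈ U
  big : ∀ y : G, (∃ u ∈ U, ∃ t ∈ T, ∃ u' ∈ U, y = u * n0 * t * u') ∨
    p ∣ Nat.card ↥(U ⊓ U.map (MulAut.conj y).toMonoidHom)
  XU : ∀ i, X i ≤ U
  Xp : ∀ i, p ∣ Nat.card (X i)
  norX : ∀ i, ∀ t ∈ T, ∀ x ∈ X i, t * x * t⁻¹ ∈ X i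
  norV : ∀ i, ∀ x ∈ X i, ∀ v ∈ VV i, x * v * x⁻¹ ∈ VV i
  nV : ∀ i, ∀ v ∈ VV i, (n i)⁻¹ * v * n i ∈ U
  dec : ∀ i, ∀ u ∈ U, ∃ x ∈ X i, ∃ v ∈ VV i, u = x * v
  opp : ∀ i, ∀ x ∈ X i, n0 * (n i)⁻¹ * x * n i * n0⁻¹ ∈ U
  sq : ∀ i, n i * n i ∈ T
  ttT : ∀ i, ∀ x ∈ X i, x ≠ 1 → tt i x ∈ T
  rk1 : ∀ i, ∀ x ∈ X i, x ≠ 1 → ∃ a ∈ X i, ∃ b ∈ X i, n i * x * (n i)⁻¹ = a * tt i x * n i * b

section RankOne

variable {G : Type*} [Group G] [Fintype G] {p : ℕ} {M : Ideal AlgInt} (hM : IsPModular p M)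
  {V : Type*} [AddCommGroup V] [Module ℂ V] {ρ : Representation ℂ G V} {b : G → ℂ}
  {U T : Subgroup G} {n0 : G} {I : Type*} {n : I → G} {X VV : I → Subgroup G} {tt : I → G → G}
  (D : Dat p U T n0 n X VV tt) {lam : G → ℂ} {w : V}
  (hb : ∀ h, MemLocalRing M (b h)) (hid : ∀ v, Hig ρ b v = v) (hρ : ρ.IsIrreducible)
  (hw0 : w ≠ 0) (hw : ∀ u ∈ U, ρ u w = w) (hT : ∀ t ∈ T, ρ t w = lam t • w)

open scoped Classical in
/-- The operator `Σ_{x ∈ X i} ρ(x n_i)` at `w`. -/
noncomputable def SS (ρ : Representation ℂ G V) (n : I → G) (X : I → Subgroup G) (w : V) (i : I) : V :=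
  ∑ x : X i, ρ ((x : G) * n i) w

include D hw in
theorem SS_fixed (i : I) {u : G} (hu : u ∈ U) : ρ u (SS ρ n X w i) = SS ρ n X w i := by
  classical
  obtain ⟨x, hx, v, hv, rfl⟩ := D.dec i u hu
  unfold SS
  rw [map_sum]
  refine Fintype.sum_equiv (Equiv.mulLeft (⟨x, hx⟩ : X i)) _ _ fun y => ?_
  have h1 : x * v * ((y : G) * n i) = (x * y * n i) * ((n i)⁻¹ * ((y : G)⁻¹ * v * (y : G)⁻¹⁻¹) * n i) := by group
  rw [← rho_mul, h1, rho_mul, hw _ (D.nV i _ (D.norV i _ (inv_mem y.2) v hv))]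
  rfl

include hM D hb hid hρ hw0 hw hT

theorem exists_ci (i : I) : ∃ c : ℂ, SS ρ n X w i = c • w ∧ IsIntegral ℤ c ∧ ¬ MemLocalIdeal M c := by
  classical
  obtain ⟨c, hc⟩ := fixed_line hM D.big hb hid hw0 hw hT hρ (v := SS ρ n X w i) (fun u hu => SS_fixed D hw i hu)
  have hcint : IsIntegral ℤ c := by
    refine isIntegral_eig ρ (Finset.univ : Finset (X i)) (fun x => (x : G) * n i) hw0 ?_
    rw [← hc]
    unfold SS
    exact Finset.sum_congr (Finset.ext fun x => by simp) fun _ _ => rfl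
  refine ⟨c, hc, hcint, fun hcI => ?_⟩
  obtain ⟨κ, hκ⟩ := fixed_line hM D.big hb hid hw0 hw hT hρ (v := F ρ U w n0) (fun u hu => rho_F n0 hu)
  obtain ⟨hκ1, hκ2⟩ := kappa hM D.big hb hid hw0 hw hT hκ
  have hκ0 : κ ≠ 0 := ne_zero_of_not_memLocalIdeal hM hκ2
  -- the transversal
  set g : G := n0 * (n i)⁻¹ with hg
  set X' : Subgroup G := (X i).map (MulAut.conj g).toMonoidHom with hX'
  have hX'U : X' ≤ U := by
    rintro _ ⟨x, hx, rfl⟩
    have h1 := D.opp i x hx
    have h2 : (MulAut.conj g).toMonoidHom x = n0 * (n i)⁻¹ * x * n i * n0⁻¹ := by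
      show g * x * g⁻¹ = _
      rw [hg]; group
    rw [h2]; exact h1
  obtain ⟨K, hK, -⟩ := Subgroup.exists_isComplement_left (X'.subgroupOf U) (1 : U)
  let e : (K × (X'.subgroupOf U)) ≃ U :=
    Equiv.ofBijective (fun x : K × (X'.subgroupOf U) => (x.1 : U) * (x.2 : U)) hK
  have : Fintype K := Fintype.ofFinite _
  let e2 : X i ≃ X'.subgroupOf U :=
    Equiv.ofBijective (fun x => ⟨⟨g * x * g⁻¹, hX'U ⟨x, x.2, rfl⟩⟩, ⟨x, x.2, rfl⟩⟩) (by
      constructor
      · intro x y hxy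
        have h1 : g * x * g⁻¹ = g * y * g⁻¹ := congrArg (fun z => ((z : U) : G)) (congrArg Subtype.val hxy)
        exact Subtype.ext (by simpa using h1)
      · rintro ⟨⟨z, hz⟩, x, hx, hxz⟩
        exact ⟨⟨x, hx⟩, Subtype.ext (Subtype.ext hxz)⟩)
  have hF : F ρ U w n0 = c • ∑ k : K, ρ (((k : U) : G) * g) w := by
    unfold F
    rw [← Equiv.sum_comp e, Fintype.sum_prod_type, Finset.smul_sum]
    refine Finset.sum_congr rfl fun k _ => ?_
    rw [← Equiv.sum_comp e2]
    have h1 : ∀ x : X i, ρ (((e (k, e2 x) : U) : G) * n0) w = ρ (((k : U) : G) * g) (ρ ((x : G) * n i) w) := by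
      intro x
      rw [← rho_mul]
      congr 2
      show ((k : U) : G) * (g * x * g⁻¹) * n0 = ((k : U) : G) * g * ((x : G) * n i)
      rw [hg]; group
    rw [Finset.sum_congr rfl fun x _ => h1 x, ← map_sum, ← map_smul, ← hc]
    rfl
  rw [hκ] at hF
  have hc0 : c ≠ 0 := by
    rintro rfl
    rw [zero_smul] at hF
    rcases smul_eq_zero.1 hF with h | h
    · exact hκ0 h
    · exact hw0 h
  have h2 : (∑ k : K, ρ (((k : U) : G) * g) w) = (c⁻¹ * κ) • w := by
    rw [mul_smul, hF, smul_smul, inv_mul_cancel₀ hc0, one_smul]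
  have h3 := isIntegral_eig ρ (Finset.univ : Finset K) (fun k => ((k : U) : G) * g) hw0 h2
  apply hκ2
  have h4 := memLocalIdeal_mul_left hM (memLocalRing_of_isIntegral hM h3) hcI
  rwa [mul_comm c⁻¹, mul_assoc, inv_mul_cancel₀ hc0, mul_one] at h4

open scoped Classical in
/-- The rank one sums do not vanish. -/
theorem sum_ne_zero (i : I) : (∑ x : X i, if (x : G) = 1 then (0 : ℂ) else lam (tt i x)) ≠ 0 := by
  obtain ⟨c, hc, hci, hcn⟩ := exists_ci hM D hb hid hρ hw0 hw hT i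
  intro hsum
  obtain ⟨hl1, hl2⟩ := lam_mul hw0 hT
  set l2 := lam (n i * n i) with hl2d
  -- the square
  have hS : ∀ a : X i, (∑ x : X i, ρ ((x : G) * a * n i) w) = c • w := by
    intro a
    rw [← hc]
    unfold SS
    refine Fintype.sum_equiv (Equiv.mulRight a) _ _ fun x => ?_
    rfl
  have hSt : ∀ t ∈ T, (∑ x : X i, ρ ((x : G) * t * n i) w) = (c * lam t) • w := by
    intro t ht
    have h1 : (∑ x : X i, ρ ((x : G) * t * n i) w) = ρ t (∑ x : X i, ρ ((x : G) * n i) w) := by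
      rw [map_sum]
      refine Fintype.sum_equiv
        (Equiv.ofBijective (fun x : X i => (⟨t⁻¹ * x * t, by
          have := D.norX i t⁻¹ (inv_mem ht) x x.2
          rwa [inv_inv] at this⟩ : X i)) ?_) _ _ fun x => ?_
      · constructor
        · intro x y hxy
          have h2 : t⁻¹ * (x : G) * t = t⁻¹ * y * t := congrArg Subtype.val hxy
          exact Subtype.ext (by simpa using h2)
        · intro y
          refine ⟨⟨t * y * t⁻¹, D.norX i t ht y y.2⟩, Subtype.ext ?_⟩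
          show t⁻¹ * (t * y * t⁻¹) * t = y
          group
      · rw [← rho_mul]
        congr 2
        show (x : G) * t * n i = t * (t⁻¹ * x * t * n i)
        group
    rw [h1]
    have h3 : (∑ x : X i, ρ ((x : G) * n i) w) = c • w := by
      have := hS 1
      simpa using this
    rw [h3, map_smul, hT t ht, smul_smul]
  have hsq : (c * c) • w = ((Nat.card (X i) : ℂ) * l2 + l2 * c * ∑ x : X i, if (x : G) = 1 then (0 : ℂ) else lam (tt i x)) • w := by
    have h1 : (c * c) • w = ∑ y : X i, ∑ x : X i, ρ ((x : G) * n i * y * n i) w := by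
      have h2 : (c * c) • w = ∑ x : X i, ρ ((x : G) * n i) (c • w) := by
        simp only [map_smul]
        rw [← Finset.smul_sum]
        have h3 : (∑ x : X i, ρ ((x : G) * n i) w) = c • w := by
          have := hS 1
          simpa using this
        rw [h3, smul_smul]
      rw [h2, ← hc]
      unfold SS
      simp only [map_sum]
      rw [Finset.sum_comm]
      refine Finset.sum_congr (Finset.ext fun x => by simp) fun y _ => Finset.sum_congr rfl fun x _ => ?_
      rw [← rho_mul]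
      congr 2
      simp [mul_assoc]
    have h2 : ∀ y : X i, (∑ x : X i, ρ ((x : G) * n i * y * n i) w) =
        (if (y : G) = 1 then (Nat.card (X i) : ℂ) * l2 else 0) • w +
          (l2 * c * (if (y : G) = 1 then (0 : ℂ) else lam (tt i y))) • w := by
      intro y
      by_cases hy : (y : G) = 1
      · rw [if_pos hy, if_pos hy, mul_zero, zero_smul, add_zero]
        have h3 : ∀ x : X i, ρ ((x : G) * n i * y * n i) w = l2 • w := by
          intro x
          rw [hy, mul_one, mul_assoc, rho_mul, hT _ (D.sq i), map_smul, hw _ (D.XU i x.2)]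
        rw [Finset.sum_congr rfl fun x _ => h3 x, Finset.sum_const, Finset.card_univ, ← Nat.card_eq_fintype_card,
          mul_smul, Nat.cast_smul_eq_nsmul]
      · rw [if_neg hy, if_neg hy, zero_smul, zero_add]
        obtain ⟨a, ha, b', hb', he⟩ := D.rk1 i y y.2 hy
        have h3 : ∀ x : X i, ρ ((x : G) * n i * y * n i) w =
            l2 • ρ ((((x : G) * a)) * tt i y * n i) w := by
          intro x
          have h4 : (x : G) * n i * y * n i = ((x : G) * (n i * y * (n i)⁻¹)) * (n i * n i) := by group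
          have h5 : (x : G) * (a * tt i y * n i * b') = (((x : G) * a) * tt i y * n i) * b' := by group
          rw [h4, rho_mul, hT _ (D.sq i), map_smul, he, h5, rho_mul, hw _ (D.XU i hb')]
        rw [Finset.sum_congr rfl fun x _ => h3 x, ← Finset.smul_sum]
        have h6 : (∑ x : X i, ρ ((((x : G) * a)) * tt i y * n i) w) = ∑ x : X i, ρ ((x : G) * tt i y * n i) w :=
          Fintype.sum_equiv (Equiv.mulRight (⟨a, ha⟩ : X i)) _ _ fun x => rfl
        rw [h6, hSt _ (D.ttT i y y.2 hy), smul_smul]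
        congr 1
        ring
    rw [h1, Finset.sum_congr rfl fun y _ => h2 y, Finset.sum_add_distrib, ← Finset.sum_smul, ← Finset.sum_smul,
      ← add_smul, ← Finset.mul_sum]
    congr 2
    rw [Finset.sum_eq_single (1 : X i)]
    · simp
    · intro y _ hy
      rw [if_neg (fun h : (y : G) = 1 => hy (Subtype.ext h))]
    · intro h
      exact absurd (Finset.mem_univ _) h
  rw [hsum, mul_zero, add_zero] at hsq
  have h7 : c * c = (Nat.card (X i) : ℂ) * l2 := by
    have h8 : (c * c - (Nat.card (X i) : ℂ) * l2) • w = 0 := by rw [sub_smul, hsq, sub_self]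
    exact sub_eq_zero.1 ((smul_eq_zero.1 h8).resolve_right hw0)
  have h9 : MemLocalIdeal M (c * c) := by
    rw [h7]
    refine memLocalIdeal_mul_right hM ((memLocalIdeal_natCast_iff hM _).2 (D.Xp i)) ?_
    exact memLocalRing_of_isIntegral hM (lam_int hw0 hT (D.sq i))
  have hcR := memLocalRing_of_isIntegral hM hci
  rcases (memLocalIdeal_mul_iff hM hcR hcR).1 h9 with h | h
  · exact hcn h
  · exact hcn h

end RankOne


/-- Condition on the torus: a linear character of `T` for which no rank one sum vanishes is trivial. -/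
def TorusCond {G : Type*} [Group G] [Fintype G] (T : Subgroup G) {I : Type*} (X : I → Subgroup G)
    (tt : I → G → G) : Prop :=
  open scoped Classical in
  ∀ lam : G → ℂ, (∀ s ∈ T, ∀ t ∈ T, lam (s * t) = lam s * lam t) → lam 1 = 1 →
    (∀ i, (∑ x : X i, if (x : G) = 1 then (0 : ℂ) else lam (tt i x)) ≠ 0) → ∀ t ∈ T, lam t = 1

section Unique

variable {G : Type*} [Group G] [Fintype G] {p : ℕ} [Fact p.Prime] {M : Ideal AlgInt} (hM : IsPModular p M)
  {U T : Subgroup G} {n0 : G} {I : Type*} {n : I → G} {X VV : I → Subgroup G} {tt : I → G → G}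
  (D : Dat p U T n0 n X VV tt) (hTC : TorusCond T X tt)

include hM D hTC

theorem exists_vec {m : ℕ} (ρ : Representation ℂ G (Fin m → ℂ)) (hρ : ρ.IsIrreducible)
    (hdef : ¬ p ∣ Nat.card G / charDegree ρ.character) :
    ∃ w : Fin m → ℂ, w ≠ 0 ∧ (∀ u ∈ U, ρ u w = w) ∧ ∀ t ∈ T, ρ t w = w := by
  classical
  obtain ⟨b, hb, hbid⟩ := exists_coeffs hM (χ := ρ.character) ⟨m, ρ, hρ, rfl⟩ hdef
  have hid : ∀ v, Hig ρ b v = v := fun v => by rw [hbid m ρ hρ v, if_pos rfl]
  obtain ⟨lam, w, hw0, hw, hT⟩ := exists_eig ρ U T D.ab D.nor (exists_fixed ρ hρ hdef U D.pU)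
  refine ⟨w, hw0, hw, fun t ht => ?_⟩
  obtain ⟨hl1, -⟩ := lam_mul hw0 hT
  have hl0 : lam 1 = 1 := by
    have h3 := hT 1 (one_mem _)
    rw [map_one, Module.End.one_apply] at h3
    have h4 : (lam 1 - 1) • w = 0 := by rw [sub_smul, one_smul, ← h3, sub_self]
    exact sub_eq_zero.1 ((smul_eq_zero.1 h4).resolve_right hw0)
  rw [hT t ht, hTC lam hl1 hl0 (fun i => sum_ne_zero hM D hb hid hρ hw0 hw hT i) t ht, one_smul]

/-- **Two irreducible characters of `p`-defect zero are equal.** -/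
theorem eq_of_defect_zero {χ ψ : G → ℂ} (hχ : IsIrrCharacter G χ) (hψ : IsIrrCharacter G ψ)
    (hdχ : ¬ p ∣ Nat.card G / charDegree χ) (hdψ : ¬ p ∣ Nat.card G / charDegree ψ) : χ = ψ := by
  classical
  by_contra hne
  obtain ⟨m, ρ, hρ, rfl⟩ := id hχ
  obtain ⟨m', σ, hσ, rfl⟩ := id hψ
  obtain ⟨v, hv0, hvU, hvT⟩ := exists_vec hM D hTC ρ hρ hdχ
  obtain ⟨v', hv0', hvU', hvT'⟩ := exists_vec hM D hTC σ hσ hdψ
  obtain ⟨b, hb, hbid⟩ := exists_coeffs hM hχ hdχ
  obtain ⟨b', hb', hbid'⟩ := exists_coeffs hM hψ hdψ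
  have hprod : ∀ (c : G → ℂ) (x : (Fin m → ℂ) × (Fin m' → ℂ)),
      Hig (ρ.prod σ) c x = (Hig ρ c x.1, Hig σ c x.2) := by
    intro c x
    unfold Hig
    ext i <;> simp [Prod.fst_sum, Prod.snd_sum, Representation.prod_apply_apply]
  have h1 : ∀ x : (Fin m → ℂ) × (Fin m' → ℂ), Hig (ρ.prod σ) b x = (x.1, 0) := by
    intro x
    rw [hprod, hbid m ρ hρ, hbid m' σ hσ, if_pos rfl, if_neg (Ne.symm hne)]
  have h2 : ∀ x : (Fin m → ℂ) × (Fin m' → ℂ), Hig (ρ.prod σ) b' x = (0, x.2) := by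
    intro x
    rw [hprod, hbid' m ρ hρ, hbid' m' σ hσ, if_neg hne, if_pos rfl]
  have hid : ∀ x : (Fin m → ℂ) × (Fin m' → ℂ), Hig (ρ.prod σ) (b + b') x = x := by
    intro x
    have h3 : Hig (ρ.prod σ) (b + b') x = Hig (ρ.prod σ) b x + Hig (ρ.prod σ) b' x := by
      unfold Hig
      simp only [Pi.add_apply, add_smul, Finset.sum_add_distrib]
    rw [h3, h1, h2]
    simp
  have hbb : ∀ h, MemLocalRing M ((b + b') h) := fun h => memLocalRing_add hM (hb h) (hb' h)
  set w : (Fin m → ℂ) × (Fin m' → ℂ) := (v, v') with hw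
  have hw0 : w ≠ 0 := fun h => hv0 (congrArg Prod.fst h)
  have happ : ∀ (g : G) (x : (Fin m → ℂ) × (Fin m' → ℂ)), (ρ.prod σ) g x = (ρ g x.1, σ g x.2) := fun g x => rfl
  have hwU : ∀ u ∈ U, (ρ.prod σ) u w = w := fun u hu => by rw [happ, hw, hvU u hu, hvU' u hu]
  have hwT : ∀ t ∈ T, (ρ.prod σ) t w = (fun _ => (1 : ℂ)) t • w := fun t ht => by
    rw [happ, hw, hvT t ht, hvT' t ht, one_smul]
  have hHL : ∀ c : G → ℂ, (∀ h, MemLocalRing M (c h)) → Hig (ρ.prod σ) c w ∈ Lat hM (ρ.prod σ) w := by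
    intro c hc
    unfold Hig
    exact sum_mem fun g _ => sum_mem fun h _ => smul_mem_of hM (hc h) (orbit_mem hM _)
  obtain ⟨c1, -, he1⟩ := mem_line hM D.big hbb hid hw0 hwU hwT (d := (v, 0))
    (by have := hHL b hb; rwa [h1] at this) (fun u hu => by rw [happ, hvU u hu, map_zero])
  obtain ⟨c2, -, he2⟩ := mem_line hM D.big hbb hid hw0 hwU hwT (d := (0, v'))
    (by have := hHL b' hb'; rwa [h2] at this) (fun u hu => by rw [happ, hvU' u hu, map_zero])
  have h5 : c1 • (F (ρ.prod σ) U w n0).2 = 0 := (congrArg Prod.snd he1).symm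
  have h6 : c2 • (F (ρ.prod σ) U w n0).2 = v' := (congrArg Prod.snd he2).symm
  have h7 : c1 • (F (ρ.prod σ) U w n0).1 = v := (congrArg Prod.fst he1).symm
  rcases smul_eq_zero.1 h5 with h | h
  · rw [h, zero_smul] at h7
    exact hv0 h7.symm
  · rw [h, smul_zero] at h6
    exact hv0' h6.symm

end Unique

end Cfsg.Agent.H143.DefZero
end

-- part: H143/RgdDat
section
/-!
# The data `DefZero.Dat` from a root group datum

* `dat` : a root group datum `R` of characteristic `p` of the finite group `Y`, with commutative torus, gives `Dat`.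
-/

set_option autoImplicit false
set_option linter.unusedSectionVars false

namespace Cfsg.Agent.H143.RgdDat

open CoxeterSystem Cfsg.Agent.ChevalleyStructure.CoxeterGeom Cfsg.Agent.Tits.Roots Cfsg.Agent.Tits.Core
  Cfsg.Agent.Tits.Exchange Cfsg.Agent.Nodes.Reps Cfsg.Agent.Nodes.BNOf Cfsg.Agent.Nodes.StabComb
  Cfsg.Agent.Nodes.Bruhat Cfsg.Agent.Nodes.OppDec Cfsg.Agent.H143.DefZero

variable {I W Y : Type*} [Fintype I] [DecidableEq I] [Group W] [Group Y] {M : CoxeterMatrix I}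
  {cs : CoxeterSystem M W} {A : I → I → ℤ} {h : IsCartan M A} {p : ℕ} {T : Subgroup Y} {n : I → Y}
  {X : (I → ℤ) → Subgroup Y}

theorem exists_ascent [Finite W] {w : W} (hw : w ≠ w0 cs) : ∃ i, cs.length w < cs.length (w * cs.simple i) := by
  by_contra hcon
  push Not at hcon
  have h1 : w0 cs * w ≠ 1 := by
    intro h
    apply hw
    have h2 : w = (w0 cs)⁻¹ := (eq_inv_of_mul_eq_one_right h)
    rw [h2]
    exact Tits.Exchange.w0_inv cs
  obtain ⟨i, hi⟩ := cs.exists_rightDescent_of_ne_one h1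
  have h3 : cs.length (w0 cs * w * cs.simple i) < cs.length (w0 cs * w) := hi
  have h4 := Tits.Exchange.length_w0_mul cs w
  have h5 := Tits.Exchange.length_w0_mul cs (w * cs.simple i)
  rw [← mul_assoc] at h5
  have h6 := hcon i
  omega

theorem dvd_card_of_ne_bot {G : Type*} [Group G] [Finite G] {p : ℕ} [hp : Fact p.Prime] {P : Subgroup G}
    (hP : IsPGroup p P) (hne : P ≠ ⊥) : p ∣ Nat.card P := by
  rw [Subgroup.ne_bot_iff_exists_ne_one] at hne
  obtain ⟨a, ha⟩ := hne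
  obtain ⟨j, hj⟩ := hP a
  have h1 : orderOf a ∣ p ^ j := orderOf_dvd_of_pow_eq_one hj
  have h2 : orderOf a ≠ 1 := fun h => ha (orderOf_eq_one_iff.1 h)
  obtain ⟨k, -, hk⟩ := (Nat.dvd_prime_pow hp.out).1 h1
  have hk0 : k ≠ 0 := by
    rintro rfl
    exact h2 (by rw [hk, pow_zero])
  exact (by rw [hk]; exact dvd_pow_self p hk0 : p ∣ orderOf a).trans (orderOf_dvd_natCard a)

section Dat

variable (R : RGD cs h p T n X)

include R

/-- **The data from a root group datum.** -/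
theorem dat [Finite W] [Finite Y] [Fact p.Prime] (hGG : GG cs h T X = ⊤) (hab : ∀ s ∈ T, ∀ t ∈ T, s * t = t * s)
    {n0 : Y} (hn0 : Rp cs R.nsys (w0 cs) n0) {tt : I → Y → Y}
    (httT : ∀ i, ∀ x ∈ X (sr i), x ≠ 1 → tt i x ∈ T)
    (hrk : ∀ i, ∀ x ∈ X (sr i), x ≠ 1 → ∃ a ∈ X (sr i), ∃ b ∈ X (sr i),
      n i * x * (n i)⁻¹ = a * tt i x * n i * b) :
    Dat p (RGD.Sup X (RGD.Pos cs h)) T n0 n (fun i => X (sr i)) (fun i => RGD.Sup X (RGD.PosNe cs h i)) tt where
  pU := R.isPGroup_Upos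
  ab := hab
  nor t ht u hu := (Subgroup.mem_normalizer_iff.1 (R.T_le_normalizer_U ht) u).1 hu
  big y := by
    have hy : y ∈ GG cs h T X := by rw [hGG]; trivial
    obtain ⟨w, b₁, hb₁, k, hk, b₂, hb₂, rfl⟩ := (mem_GG R).1 hy
    by_cases hw : w = w0 cs
    · subst hw
      left
      obtain ⟨t, ht, u, hu, rfl⟩ := R.mem_B.1 hb₁
      obtain ⟨t', ht', u', hu', rfl⟩ := R.mem_B.1 hb₂
      refine ⟨t * u * t⁻¹, (Subgroup.mem_normalizer_iff.1 (R.T_le_normalizer_U ht) u).1 hu,
        (n0⁻¹ * t * n0) * (n0⁻¹ * k) * t', mul_mem (mul_mem ?_ (hn0.unique hk)) ht', u', hu', by group⟩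
      have h1 := (Subgroup.mem_normalizer_iff.1 (inv_mem hn0.mem_normalizer) t).1 ht
      rwa [inv_inv] at h1
    · right
      obtain ⟨i, hi⟩ := exists_ascent hw
      have hpos : 0 ≤ rep cs h w (sr i) := (lt_iff' cs h w i).1 hi
      obtain ⟨u, hu, hu1⟩ := exists_ne_one R i
      have hsr : X (sr i) ≤ RGD.Sup X (RGD.Pos cs h) := RGD.le_Sup (S := RGD.Pos cs h) ⟨isRoot_sr cs h i, sr_nonneg i⟩
      have hku : k * u * k⁻¹ ∈ RGD.Sup X (RGD.Pos cs h) :=
        (RGD.le_Sup (S := RGD.Pos cs h) ⟨(isRoot_sr cs h i).act w, hpos⟩) (R.conj_mem hk (isRoot_sr cs h i) hu)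
      have hz1 : b₁ * (k * u * k⁻¹) * b₁⁻¹ ∈ RGD.Sup X (RGD.Pos cs h) :=
        (Subgroup.mem_normalizer_iff.1 (R.B_le_normalizer_U hb₁) _).1 hku
      have hz2 : b₁ * (k * u * k⁻¹) * b₁⁻¹ ∈
          (RGD.Sup X (RGD.Pos cs h)).map (MulAut.conj (b₁ * k * b₂)).toMonoidHom := by
        refine ⟨b₂⁻¹ * u * b₂, ?_, ?_⟩
        · have h1 := (Subgroup.mem_normalizer_iff.1 (R.B_le_normalizer_U (inv_mem hb₂)) u).1 (hsr hu)
          rwa [inv_inv] at h1
        · show (b₁ * k * b₂) * (b₂⁻¹ * u * b₂) * (b₁ * k * b₂)⁻¹ = _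
          group
      have hne : b₁ * (k * u * k⁻¹) * b₁⁻¹ ≠ 1 := by
        intro h0
        apply hu1
        have h1 : u = k⁻¹ * (b₁⁻¹ * (b₁ * (k * u * k⁻¹) * b₁⁻¹) * b₁) * k := by group
        rw [h1, h0]; group
      refine dvd_card_of_ne_bot (R.isPGroup_Upos.to_le inf_le_left) ?_
      intro h0
      have h1 := Subgroup.mem_inf.2 ⟨hz1, hz2⟩
      rw [h0, Subgroup.mem_bot] at h1
      exact hne h1
  XU i := RGD.le_Sup (S := RGD.Pos cs h) ⟨isRoot_sr cs h i, sr_nonneg i⟩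
  Xp i := dvd_card_of_ne_bot (R.pgrp i) (X_ne_bot R (isRoot_sr cs h i))
  norX i t ht x hx := by
    have h1 : cj t (X (sr i)) = X (sr i) := R.tor _ (isRoot_sr cs h i) t ht
    rw [← h1]
    exact conj_mem_cj.2 hx
  norV i x hx v hv := (Subgroup.mem_normalizer_iff.1 (R.X_le_normalizer_V i hx) v).1 hv
  nV i v hv := by
    have h1 : v ∈ cj (n i) (RGD.Sup X (RGD.PosNe cs h i)) := by rwa [R.cj_n_V i]
    have h2 : RGD.PosNe cs h i ⊆ RGD.Pos cs h := fun x hx => ⟨hx.1, hx.2.1⟩
    exact RGD.Sup_mono h2 (mem_cj.1 h1)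
  dec i u hu := by
    have h1 : u⁻¹ ∈ ((RGD.Sup X (RGD.PosNe cs h i) ⊔ X (sr i) : Subgroup Y) : Set Y) := by
      rw [sup_comm, ← R.Upos_eq i]
      exact inv_mem hu
    rw [Subgroup.coe_mul_of_right_le_normalizer_left _ _ (R.X_le_normalizer_V i), Set.mem_mul] at h1
    obtain ⟨v, hv, u', hu', e'⟩ := h1
    refine ⟨u'⁻¹, inv_mem hu', v⁻¹, inv_mem hv, ?_⟩
    rw [← mul_inv_rev, e', inv_inv]
  opp i x hx := by
    have h1 : (n i)⁻¹ * x * n i ∈ X (rep cs h (cs.simple i)⁻¹ (sr i)) :=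
      R.conj_mem' (rp_simple cs R.nsys i) (isRoot_sr cs h i) hx
    have hrt := (isRoot_sr cs h i).act (cs.simple i)⁻¹
    have h2 := R.conj_mem hn0 hrt h1
    have h3 : n0 * ((n i)⁻¹ * x * n i) * n0⁻¹ = n0 * (n i)⁻¹ * x * n i * n0⁻¹ := by group
    rw [h3] at h2
    have h5 : rep cs h (cs.simple i)⁻¹ (sr i) ≤ 0 := by
      rw [inv_simple, rep_simple_sr]
      exact neg_nonpos.2 (sr_nonneg i)
    have h6 : IsRoot cs h (rep cs h (w0 cs) (rep cs h (cs.simple i)⁻¹ (sr i))) := hrt.act (w0 cs)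
    have h7 : 0 ≤ rep cs h (w0 cs) (rep cs h (cs.simple i)⁻¹ (sr i)) := rep_w0_nonneg hrt h5
    exact (RGD.le_Sup (S := RGD.Pos cs h) ⟨h6, h7⟩) h2
  sq i := R.sq_mem_T i
  ttT := httT
  rk1 := hrk

end Dat

end Cfsg.Agent.H143.RgdDat
end

-- part: H143/ChevDefZero
section
/-!
# The Chevalley groups have at most one irreducible character of `p`-defect zero

* `eq_of_defect_zero` : `D` one of `chevG2, chevB2, chevD4, chevF4, chevE6, chevE7, chevE8`, `K` a finite field of
  characteristic `p`: two irreducible characters of `D.group K` of `p`-defect zero are equal.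
-/

set_option autoImplicit false
set_option linter.unusedSectionVars false

namespace Cfsg.Agent.H143.ChevDefZero

open CoxeterSystem Cfsg.Agent.ChevalleyStructure.CoxeterGeom Cfsg.Agent.Tits.Roots Cfsg.Agent.Tits.Core
  Cfsg.Agent.Tits.RootComb Cfsg.Agent.Nodes.Comb Cfsg.Agent.Nodes.Reps Cfsg.Agent.Nodes.BNOf
open Cfsg.Lie Cfsg.Agent.ChevalleyStructure Cfsg.Agent.ChevalleyStructure.Elts
  Cfsg.Agent.ChevalleyStructure.RootVec Cfsg.Agent.ChevalleyStructure.RootVecTab
  Cfsg.Agent.ChevalleyStructure.NPerm Cfsg.Agent.ChevalleyStructure.CoxeterGeomTypes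
  Cfsg.Agent.Nodes.RGDChev Cfsg.Agent.H143.DefZero Cfsg.Agent.H143.RgdDat

universe u

variable {D : ChevalleyDatum} {l : ℕ} {M : CoxeterMatrix (Fin l)} (hp : IsType D l M) {K : Type u} [Field K]

section SL

variable (K) in
/-- `u(t)`. -/
def uu (t : K) : Matrix.SpecialLinearGroup (Fin 2) K := ⟨!![1, t; 0, 1], by simp [Matrix.det_fin_two]⟩

variable (K) in
/-- `v(t)`. -/
def vv (t : K) : Matrix.SpecialLinearGroup (Fin 2) K := ⟨!![1, 0; t, 1], by simp [Matrix.det_fin_two]⟩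

variable (K) in
/-- `diag(t, t⁻¹)`. -/
def dd (t : K) (ht : t ≠ 0) : Matrix.SpecialLinearGroup (Fin 2) K :=
  ⟨!![t, 0; 0, t⁻¹], by simp [Matrix.det_fin_two, ht]⟩

theorem w_eq {t : K} (ht : t ≠ 0) : uu K t * (vv K (-t⁻¹) * uu K t) =
    ⟨!![0, t; -t⁻¹, 0], by simp [Matrix.det_fin_two, ht]⟩ := by
  apply Subtype.ext
  show (!![1, t; 0, 1] * (!![1, 0; -t⁻¹, 1] * !![1, t; 0, 1]) : Matrix (Fin 2) (Fin 2) K) = !![0, t; -t⁻¹, 0]
  simp [ht]

theorem d_eq {t : K} (ht : t ≠ 0) :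
    (uu K t * (vv K (-t⁻¹) * uu K t)) * (uu K (-1) * (vv K (-(-1)⁻¹) * uu K (-1))) = dd K t ht := by
  rw [w_eq ht, w_eq (neg_ne_zero.2 one_ne_zero)]
  apply Subtype.ext
  show (!![0, t; -t⁻¹, 0] * !![0, -1; -(-1)⁻¹, 0] : Matrix (Fin 2) (Fin 2) K) = !![t, 0; 0, t⁻¹]
  simp

theorem d_mul {s t : K} (hs : s ≠ 0) (ht : t ≠ 0) : dd K s hs * dd K t ht = dd K (s * t) (mul_ne_zero hs ht) := by
  apply Subtype.ext
  show (!![s, 0; 0, s⁻¹] * !![t, 0; 0, t⁻¹] : Matrix (Fin 2) (Fin 2) K) = !![s * t, 0; 0, (s * t)⁻¹]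
  simp [mul_comm]

end SL

include hp in
/-- The homomorphism `SL₂ → ⟨X_r, X_{-r}⟩`. -/
theorem exists_phi (i : Fin l) : ∃ φ : Matrix.SpecialLinearGroup (Fin 2) K →* GL D.Idx K,
    (∀ t, φ (uu K t) = xG hp.inList (D.simple i) t) ∧ (∀ t, φ (vv K t) = xG hp.inList (D.neg (D.simple i)) t) := by
  obtain ⟨φ, -, h⟩ := Cfsg.Agent.S1030.result (F := K) D hp.inList (D.simple i) (simple_lt hp.inList (lt_rank hp i))
  exact ⟨φ, fun t => Units.ext ((h (uu K t) t).1 rfl), fun t => Units.ext ((h (vv K t) t).2 rfl)⟩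

include hp in
theorem phi_h {i : Fin l} {φ : Matrix.SpecialLinearGroup (Fin 2) K →* GL D.Idx K}
    (h1 : ∀ t, φ (uu K t) = xG hp.inList (D.simple i) t)
    (h2 : ∀ t, φ (vv K t) = xG hp.inList (D.neg (D.simple i)) t) {t : K} (ht : t ≠ 0) :
    hG hp.inList (D.simple i) t = φ (dd K t ht) := by
  rw [← d_eq ht, hG_def, nG_def, nG_def]
  simp only [map_mul, h1, h2]

include hp in
theorem hG_mul (i : Fin l) {s t : K} (hs : s ≠ 0) (ht : t ≠ 0) :
    hG hp.inList (D.simple i) (s * t) = hG hp.inList (D.simple i) s * hG hp.inList (D.simple i) t := by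
  obtain ⟨φ, h1, h2⟩ := exists_phi (K := K) hp i
  rw [phi_h hp h1 h2 hs, phi_h hp h1 h2 ht, phi_h hp h1 h2 (mul_ne_zero hs ht), ← map_mul, d_mul]

include hp in
/-- The rank one relation. -/
theorem rank_one (i : Fin l) {t : K} (ht : t ≠ 0) :
    nn hp K i * xG hp.inList (D.simple i) t * (nn hp K i)⁻¹ =
      xG hp.inList (D.simple i) (-t⁻¹) * hG hp.inList (D.simple i) t⁻¹ * nn hp K i *
        xG hp.inList (D.simple i) (-t⁻¹) := by
  obtain ⟨φ, h1, h2⟩ := exists_phi (K := K) hp i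
  have hn : nn hp K i = φ (uu K 1 * (vv K (-(1 : K)⁻¹) * uu K 1)) := by
    unfold nn
    rw [nG_def]
    simp only [map_mul, h1, h2]
  rw [phi_h hp h1 h2 (inv_ne_zero ht), hn, ← h1, ← h1, ← map_mul, ← map_inv, ← map_mul, ← map_mul, ← map_mul,
    ← map_mul]
  congr 1
  rw [mul_inv_eq_iff_eq_mul, w_eq one_ne_zero]
  apply Subtype.ext
  show (!![0, 1; -(1 : K)⁻¹, 0] * !![1, t; 0, 1] : Matrix (Fin 2) (Fin 2) K) =
    !![1, -t⁻¹; 0, 1] * !![t⁻¹, 0; 0, t⁻¹⁻¹] * !![0, 1; -(1 : K)⁻¹, 0] * !![1, -t⁻¹; 0, 1] * !![0, 1; -(1 : K)⁻¹, 0]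
  simp [ht]

/-- `h_{p_i}(t)` as an element of `D.group K`. -/
def hS (i : Fin l) (t : K) : ↥(D.group K) := ⟨hG hp.inList (D.simple i) t, hG_mem_group _ _ _⟩

open scoped Classical in
/-- The torus part in the rank one relation. -/
noncomputable def tt (i : Fin l) (x : ↥(D.group K)) : ↥(D.group K) :=
  if h : ∃ t : K, (x : GL D.Idx K) = xG hp.inList (D.simple i) t then hS hp i (h.choose)⁻¹ else 1

theorem tt_eq (i : Fin l) {x : ↥(D.group K)} {t : K} (hx : (x : GL D.Idx K) = xG hp.inList (D.simple i) t) :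
    tt hp i x = hS hp i t⁻¹ := by
  have h : ∃ t : K, (x : GL D.Idx K) = xG hp.inList (D.simple i) t := ⟨t, hx⟩
  unfold tt
  rw [dif_pos h]
  have h1 : h.choose = t := by
    have h2 := hx.symm.trans h.choose_spec
    exact (xG_injective hp.inList (simple_lt hp.inList (lt_rank hp i)) h2).symm
  rw [h1]

theorem diagonal_le_of (hD : InList D) (H : Subgroup (GL D.Idx K))
    (hH : ∀ i < D.rank, ∀ c : K, c ≠ 0 → hG hD (D.simple i) c ∈ H) : D.diagonalSubgroup K ≤ H := by
  intro g hg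
  obtain ⟨c, hc, hgc⟩ := Cfsg.Agent.S1034.result (F := K) D hD g hg
  rw [(eq_wordG_iff hD g _).2 hgc]
  have key : ∀ L : List ℕ, (∀ i ∈ L, i < D.rank) →
      wordG hD (L.flatMap fun i => D.hWord (D.simple i) (c i)) ∈ H := by
    intro L
    induction L with
    | nil => intro _; exact H.one_mem
    | cons a L ih =>
      intro hL
      rw [List.flatMap_cons, wordG_append]
      exact H.mul_mem (hH a (hL a List.mem_cons_self) (c a) (hc a (hL a List.mem_cons_self)))
        (ih fun i hi => hL i (List.mem_cons_of_mem _ hi))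
  exact key _ fun i hi => List.mem_range.mp hi

/-- The torus of `D.group K`. -/
abbrev TT (D : ChevalleyDatum) (K : Type u) [Field K] : Subgroup ↥(D.group K) :=
  (D.diagonalSubgroup K).subgroupOf (D.group K)

/-- The simple root groups of `D.group K`. -/
abbrev XS (D : ChevalleyDatum) (l : ℕ) (K : Type u) [Field K] (i : Fin l) : Subgroup ↥(D.group K) :=
  (XV D l K (sr i)).subgroupOf (D.group K)

include hp in
theorem mem_XS (i : Fin l) (x : ↥(D.group K)) :
    x ∈ XS D l K i ↔ ∃ t : K, (x : GL D.Idx K) = xG hp.inList (D.simple i) t := by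
  unfold XS
  rw [Subgroup.mem_subgroupOf, XV_sr hp i, mem_rootSubgroup_iff hp.inList]

include hp in
theorem diag_comm {a b : GL D.Idx K} (ha : a ∈ D.diagonalSubgroup K) (hb : b ∈ D.diagonalSubgroup K) :
    a * b = b * a := by
  obtain ⟨χ, hχ⟩ := HMatDiagAll.mem_torus.1 (HMatDiagAll.diagonalSubgroup_le_torus hp.inList ha)
  obtain ⟨ψ, hψ⟩ := HMatDiagAll.mem_torus.1 (HMatDiagAll.diagonalSubgroup_le_torus hp.inList hb)
  apply Units.ext
  rw [Units.val_mul, Units.val_mul, hχ, hψ, Matrix.diagonal_mul_diagonal, Matrix.diagonal_mul_diagonal]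
  congr 1
  funext i
  ring

theorem sum_eq_zero_of [Fintype K] [DecidableEq K] (f : K → ℂ) (hf : ∀ s t : K, s ≠ 0 → t ≠ 0 → f (s * t) = f s * f t) {s : K} (hs : s ≠ 0)
    (hfs : f s ≠ 1) : (∑ t : K, if t = 0 then (0 : ℂ) else f t) = 0 := by
  classical
  have h1 : (∑ t : K, if t = 0 then (0 : ℂ) else f t) = f s * ∑ t : K, if t = 0 then (0 : ℂ) else f t := by
    rw [Finset.mul_sum]
    symm
    refine Fintype.sum_equiv (Equiv.mulLeft₀ s hs) _ _ fun t => ?_
    show f s * (if t = 0 then (0 : ℂ) else f t) = if s * t = 0 then (0 : ℂ) else f (s * t)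
    by_cases ht : t = 0
    · rw [ht, if_pos rfl, mul_zero, mul_zero, if_pos rfl]
    · rw [if_neg ht, if_neg (mul_ne_zero hs ht), hf s t hs ht]
  have h2 : (f s - 1) * ∑ t : K, (if t = 0 then (0 : ℂ) else f t) = 0 := by
    rw [sub_mul, one_mul, ← h1, sub_self]
  exact (mul_eq_zero.1 h2).resolve_left (sub_ne_zero.2 hfs)

/-- **The condition on the torus.** -/
theorem torusCond [Fintype K] [Fintype ↥(D.group K)] : TorusCond (TT D K) (XS D l K) (tt (K := K) hp) := by
  classical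
  intro lam hl1 hl0 hsum
  -- the sums
  have key : ∀ (i : Fin l) (s : K), s ≠ 0 → lam (hS hp i s) = 1 := by
    intro i s hs
    by_contra hne
    apply hsum i
    let e : K ≃ XS D l K i := Equiv.ofBijective
      (fun t => ⟨⟨xG hp.inList (D.simple i) t, xG_mem_group _ _ _⟩, (mem_XS hp i _).2 ⟨t, rfl⟩⟩) (by
        constructor
        · intro a b hab
          have h1 := congrArg (fun z => ((z : ↥(D.group K)) : GL D.Idx K)) (congrArg Subtype.val hab)
          exact xG_injective hp.inList (simple_lt hp.inList (lt_rank hp i)) h1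
        · rintro ⟨x, hx⟩
          obtain ⟨t, ht⟩ := (mem_XS hp i x).1 hx
          exact ⟨t, Subtype.ext (Subtype.ext ht.symm)⟩)
    have h1 : (∑ x : XS D l K i, if (x : ↥(D.group K)) = 1 then (0 : ℂ) else lam (tt hp i x)) =
        ∑ t : K, if t = 0 then (0 : ℂ) else lam (hS hp i t) := by
      rw [← Equiv.sum_comp e, ← Equiv.sum_comp (Equiv.inv K) (fun t => if t = 0 then (0 : ℂ) else lam (hS hp i t))]
      refine Finset.sum_congr rfl fun t _ => ?_
      have h2 : ((e t : ↥(D.group K)) : GL D.Idx K) = xG hp.inList (D.simple i) t := rfl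
      have h3 : ((e t : XS D l K i) : ↥(D.group K)) = 1 ↔ t = 0 := by
        constructor
        · intro h
          have h4 : xG hp.inList (D.simple i) t = xG hp.inList (D.simple i) 0 := by
            rw [xG_zero, ← h2, h]; rfl
          exact xG_injective hp.inList (simple_lt hp.inList (lt_rank hp i)) h4
        · rintro rfl
          exact Subtype.ext (by rw [h2, xG_zero]; rfl)
      show (if ((e t : XS D l K i) : ↥(D.group K)) = 1 then (0 : ℂ) else lam (tt hp i (e t))) =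
        if t⁻¹ = 0 then 0 else lam (hS hp i t⁻¹)
      rw [tt_eq hp i h2]
      by_cases ht : t = 0
      · rw [if_pos (h3.2 ht), if_pos (by rw [ht, inv_zero])]
      · rw [if_neg (fun h => ht (h3.1 h)), if_neg (inv_ne_zero ht)]
    have hz := sum_eq_zero_of (fun t => lam (hS hp i t)) (by
      intro a b ha hb
      have h2 : hS hp i (a * b) = hS hp i a * hS hp i b := Subtype.ext (hG_mul hp i ha hb)
      show lam (hS hp i (a * b)) = _
      rw [h2]
      have hm : ∀ c : K, c ≠ 0 → hS hp i c ∈ TT D K := fun c hc =>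
        Subgroup.mem_subgroupOf.2 (hG_mem_diagonal hp.inList (simple_lt hp.inList (lt_rank hp i)) hc)
      exact hl1 _ (hm a ha) _ (hm b hb)) hs hne
    rw [← h1] at hz
    convert hz
  -- the torus is generated by these elements
  let H : Subgroup ↥(D.group K) :=
    { carrier := {t | t ∈ TT D K ∧ lam t = 1}
      mul_mem' := fun {a b} ha hb => ⟨mul_mem ha.1 hb.1, by rw [hl1 _ ha.1 _ hb.1, ha.2, hb.2, one_mul]⟩
      one_mem' := ⟨one_mem _, hl0⟩
      inv_mem' := fun {a} ha => ⟨inv_mem ha.1, by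
        have h1 := hl1 _ (inv_mem ha.1) _ ha.1
        rw [inv_mul_cancel, hl0, ha.2, mul_one] at h1
        exact h1.symm⟩ }
  intro t ht
  have h1 : D.diagonalSubgroup K ≤ H.map (D.group K).subtype := by
    refine diagonal_le_of hp.inList _ fun i hi c hc => ?_
    have hi' : i < l := by rw [← hp.rank_eq]; exact hi
    refine ⟨hS hp ⟨i, hi'⟩ c, ⟨?_, key ⟨i, hi'⟩ c hc⟩, rfl⟩
    exact Subgroup.mem_subgroupOf.2 (hG_mem_diagonal hp.inList (simple_lt hp.inList hi) hc)
  obtain ⟨t', ht', he⟩ := h1 (Subgroup.mem_subgroupOf.1 ht)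
  have : t' = t := Subtype.ext he
  rw [← this]
  exact ht'.2

/-- The data. -/
theorem exists_dat [Finite K] (p : ℕ) [Fact p.Prime] [CharP K p] : ∃ (U : Subgroup ↥(D.group K)) (n0 : ↥(D.group K))
    (n : Fin l → ↥(D.group K)) (VV : Fin l → Subgroup ↥(D.group K)),
    Dat p U (TT D K) n0 n (XS D l K) VV (tt (K := K) hp) := by
  let cs : CoxeterSystem M M.Group := M.toCoxeterSystem
  have hW : Finite M.Group := finite_W hp cs
  have R := rgd (K := K) hp cs p
  obtain ⟨n0, hn0⟩ := exists_rp cs R.nsys (w0 cs)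
  have hGG : Nodes.Bruhat.GG cs hp.isCartan (TT D K) (fun x => (XV D l K x).subgroupOf (D.group K)) = ⊤ := by
    rw [← top_le_iff, ← G1_eq_top hp cs (K := K)]
    refine RGD.Sup_le fun x hx => ?_
    exact Nodes.Bruhat.X_le_GG (T := TT D K) (X := fun x => (XV D l K x).subgroupOf (D.group K)) hx
  refine ⟨_, n0, _, _, dat R hGG ?_ hn0 ?_ ?_⟩
  · intro s hs t ht
    exact Subtype.ext (diag_comm hp (Subgroup.mem_subgroupOf.1 hs) (Subgroup.mem_subgroupOf.1 ht))
  · intro i x hx hx1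
    obtain ⟨t, ht⟩ := (mem_XS hp i x).1 hx
    have ht0 : t ≠ 0 := by
      rintro rfl
      exact hx1 (Subtype.ext (by rw [ht, xG_zero]; rfl))
    rw [tt_eq hp i ht]
    exact Subgroup.mem_subgroupOf.2
      (hG_mem_diagonal hp.inList (simple_lt hp.inList (lt_rank hp i)) (inv_ne_zero ht0))
  · intro i x hx hx1
    obtain ⟨t, ht⟩ := (mem_XS hp i x).1 hx
    have ht0 : t ≠ 0 := by
      rintro rfl
      exact hx1 (Subtype.ext (by rw [ht, xG_zero]; rfl))
    refine ⟨⟨xG hp.inList (D.simple i) (-t⁻¹), xG_mem_group _ _ _⟩, (mem_XS hp i _).2 ⟨_, rfl⟩,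
      ⟨xG hp.inList (D.simple i) (-t⁻¹), xG_mem_group _ _ _⟩, (mem_XS hp i _).2 ⟨_, rfl⟩, ?_⟩
    rw [tt_eq hp i ht]
    apply Subtype.ext
    show nn hp K i * (x : GL D.Idx K) * (nn hp K i)⁻¹ = _
    rw [ht]
    exact rank_one hp i ht0

/-- **Two irreducible characters of `p`-defect zero of a Chevalley group of characteristic `p` are equal.** -/
theorem eq_of_defect_zero {D : ChevalleyDatum} (hD : InList D) {K : Type u} [Field K] [Finite K] (p : ℕ)
    [Fact p.Prime] [CharP K p] {χ ψ : ↥(D.group K) → ℂ} (hχ : Cfsg.IsIrrCharacter ↥(D.group K) χ)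
    (hψ : Cfsg.IsIrrCharacter ↥(D.group K) ψ)
    (hdχ : ¬ p ∣ Nat.card ↥(D.group K) / Cfsg.charDegree χ)
    (hdψ : ¬ p ∣ Nat.card ↥(D.group K) / Cfsg.charDegree ψ) : χ = ψ := by
  classical
  obtain ⟨l, M, hp⟩ : ∃ (l : ℕ) (M : CoxeterMatrix (Fin l)), IsType D l M := by
    simp only [InList, List.mem_cons, List.not_mem_nil, or_false] at hD
    rcases hD with rfl | rfl | rfl | rfl | rfl | rfl | rfl
    · exact ⟨2, CoxeterMatrix.G₂, by simp [IsType, typeList]⟩
    · exact ⟨2, CoxeterMatrix.B 2, by simp [IsType, typeList]⟩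
    · exact ⟨4, coxeterD4, by simp [IsType, typeList]⟩
    · exact ⟨4, CoxeterMatrix.F₄, by simp [IsType, typeList]⟩
    · exact ⟨6, CoxeterMatrix.E₆, by simp [IsType, typeList]⟩
    · exact ⟨7, CoxeterMatrix.E₇, by simp [IsType, typeList]⟩
    · exact ⟨8, CoxeterMatrix.E₈, by simp [IsType, typeList]⟩
  have := Fintype.ofFinite K
  have := Fintype.ofFinite ↥(D.group K)
  obtain ⟨M', hM'⟩ := Blocks.ExistsModular.exists_isPModular (Fact.out : p.Prime)
  obtain ⟨U, n0, n, VV, hd⟩ := exists_dat hp (K := K) p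
  exact DefZero.eq_of_defect_zero hM' hd (torusCond hp) hχ hψ hdχ hdψ

end Cfsg.Agent.H143.ChevDefZero
end
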