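import Mathlib
import Cfsg.Agent.H143.ChevDefZero
import Cfsg.Agent.H142.FullBlocks
import Cfsg.Agent.H400.BlockDefect
import Cfsg.Agent.H163.SteinbergRGD
import Cfsg.Agent.KFacts.RgdCharP
import Cfsg.Agent.KFacts.RgdFiltChev
import Cfsg.Agent.S1077
import Cfsg.Agent.S0914
import Cfsg.Agent.Blocks.Knorr
set_option linter.all false

/-!
# The `p`-blocks of the Chevalley groups of characteristic `p`

* `card_defect_zero` : if there is exactly one irreducible character of `p`-defect zero, there is exactly one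
  `p`-block of defect zero;
* `local_char` : `p`-local subgroups of `D.group K` have characteristic `p`;
* `card_blocks` : `D.group K` has exactly two `p`-blocks.
-/

set_option autoImplicit false
set_option linter.unusedSectionVars false

namespace Cfsg.Agent.H143.ChevBlocks

open CoxeterSystem Cfsg.Agent.ChevalleyStructure.CoxeterGeom Cfsg.Agent.Tits.Roots Cfsg.Agent.Tits.Core
  Cfsg.Agent.Tits.RootComb Cfsg.Agent.Nodes.Comb Cfsg.Agent.Nodes.Reps Cfsg.Agent.Nodes.BNOf
open Cfsg.Lie Cfsg.Agent.ChevalleyStructure Cfsg.Agent.ChevalleyStructure.Elts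
  Cfsg.Agent.ChevalleyStructure.RootVec Cfsg.Agent.ChevalleyStructure.RootVecTab
  Cfsg.Agent.ChevalleyStructure.NPerm Cfsg.Agent.ChevalleyStructure.CoxeterGeomTypes
  Cfsg.Agent.Nodes.RGDChev Cfsg.Agent.KFacts.RgdCharP

universe u

section Abstract

variable {G : Type*} [Group G] [Finite G] {p : ℕ} [Fact p.Prime] {M : Ideal AlgInt}

theorem not_dvd_iff {χ : G → ℂ} (hχ : IsIrrCharacter G χ) :
    ¬ p ∣ Nat.card G / charDegree χ ↔ (Nat.card G).factorization p ≤ (charDegree χ).factorization p := by
  have hp : p.Prime := Fact.out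
  obtain ⟨m, hm⟩ := Blocks.Knorr.charDegree_dvd hχ
  have hd0 : charDegree χ ≠ 0 := by
    intro h
    rw [h, zero_mul] at hm
    exact Nat.card_pos.ne' hm
  have hm0 : m ≠ 0 := by
    intro h
    rw [h, mul_zero] at hm
    exact Nat.card_pos.ne' hm
  have h1 : Nat.card G / charDegree χ = m := by
    rw [hm]
    exact Nat.mul_div_cancel_left _ (Nat.pos_of_ne_zero hd0)
  rw [h1, hm, Nat.factorization_mul hd0 hm0]
  simp only [Finsupp.coe_add, Pi.add_apply]
  constructor
  · intro h
    rw [Nat.factorization_eq_zero_of_not_dvd h]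
    omega
  · intro h hdvd
    have := hp.factorization_pos_of_dvd hm0 hdvd
    omega

/-- If there is exactly one irreducible character of defect zero then there is exactly one block of defect zero. -/
theorem card_defect_zero (hM : IsPModular p M) (χ : IrrCharacter G)
    (hχ : ¬ p ∣ Nat.card G / charDegree (χ : G → ℂ))
    (huniq : ∀ ψ : IrrCharacter G, ¬ p ∣ Nat.card G / charDegree (ψ : G → ℂ) → ψ = χ) :
    Nat.card {B : Set (IrrCharacter G) // IsPBlock M B ∧ blockDefect p B = 0} = 1 := by
  have h1 := (Cfsg.Agent.S0914.result p M hM χ).1 hχ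
  have hblock : IsPBlock M ({χ} : Set (IrrCharacter G)) := ⟨χ, h1.symm⟩
  have hdef : blockDefect p ({χ} : Set (IrrCharacter G)) = 0 := by
    unfold blockDefect
    rw [Set.image_singleton, csInf_singleton]
    have := (not_dvd_iff χ.2).1 hχ
    omega
  rw [Nat.card_eq_one_iff_unique]
  refine ⟨⟨?_⟩, ⟨⟨{χ}, hblock, hdef⟩⟩⟩
  have key : ∀ B : Set (IrrCharacter G), IsPBlock M B → blockDefect p B = 0 → B = {χ} := by
    rintro B ⟨ψ, rfl⟩ h0
    have hψ : ψ ∈ blockOf M (ψ : G → ℂ) := by
      intro g
      have := Blocks.Local.isPrime_of_isPModular hM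
      rw [sub_self]
      exact Blocks.Local.memLocalIdeal_zero
    have h2 : ¬ p ∣ Nat.card G / charDegree (ψ : G → ℂ) := by
      rw [not_dvd_iff ψ.2]
      unfold blockDefect at h0
      have h3 : sInf ((fun χ : IrrCharacter G => (charDegree (χ : G → ℂ)).factorization p) ''
          blockOf M (ψ : G → ℂ)) ≤ (charDegree (ψ : G → ℂ)).factorization p :=
        Nat.sInf_le ⟨ψ, hψ, rfl⟩
      omega
    rw [huniq ψ h2, h1]
  rintro ⟨B, hB, hB0⟩ ⟨B', hB', hB0'⟩
  exact Subtype.ext ((key B hB hB0).trans (key B' hB' hB0').symm)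

theorem eq_one_of_pow {g : G} (hg : ¬ p ∣ orderOf g) {k : ℕ} (hk : g ^ p ^ k = 1) : g = 1 := by
  have hp : p.Prime := Fact.out
  obtain ⟨j, -, hj⟩ := (Nat.dvd_prime_pow hp).1 (orderOf_dvd_of_pow_eq_one hk)
  rcases Nat.eq_zero_or_pos j with h0 | h0
  · rw [h0, pow_zero] at hj
    exact orderOf_eq_one_iff.1 hj
  · exact absurd (hj ▸ dvd_pow_self p h0.ne') hg

/-- **Groups of local characteristic `p` with one character of defect zero have two blocks.** -/
theorem card_eq_two (hM : IsPModular p M) (hdvd : p ∣ Nat.card G)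
    (hloc : ∀ K : Subgroup G, IsPGroup p K → K ≠ ⊥ →
      Subgroup.centralizer (pCore p ↥(Subgroup.normalizer (K : Set G)) : Set ↥(Subgroup.normalizer (K : Set G))) ≤
        pCore p ↥(Subgroup.normalizer (K : Set G)))
    (hcen : Subgroup.center G = ⊥) (χ : IrrCharacter G)
    (hχ : ¬ p ∣ Nat.card G / charDegree (χ : G → ℂ))
    (huniq : ∀ ψ : IrrCharacter G, ¬ p ∣ Nat.card G / charDegree (ψ : G → ℂ) → ψ = χ) :
    Nat.card {B : Set (IrrCharacter G) // IsPBlock M B} = 2 := by
  have hp : p.Prime := Fact.out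
  obtain ⟨P⟩ : Nonempty (Sylow p G) := inferInstance
  have hP1 : (P : Subgroup G) ≠ ⊥ := by
    intro h
    have h1 := P.card_eq_multiplicity
    rw [h, Subgroup.card_bot] at h1
    have h2 := hp.factorization_pos_of_dvd Nat.card_pos.ne' hdvd
    have h3 := Nat.one_lt_pow h2.ne' hp.one_lt
    omega
  rw [H142.FullBlocks.card_split hM P hdvd fun B hB => H400.BlockDefect.defect_of_local hloc hM hB,
    card_defect_zero hM χ hχ huniq, H142.FullBlocks.card_full hM P ?_ ?_, hcen, Subgroup.card_bot]
  · intro c hc hcP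
    have hcN : c ∈ Subgroup.normalizer ((P : Subgroup G) : Set G) := Subgroup.centralizer_le_normalizer _ hcP
    have h0 := hloc P P.isPGroup' hP1
    have hcore : IsPGroup p ↥(pCore p ↥(Subgroup.normalizer ((P : Subgroup G) : Set G))) :=
      Lib.Cores.pCore_isPGroup p
    have hcoreP : ∀ y : ↥(Subgroup.normalizer ((P : Subgroup G) : Set G)),
        y ∈ pCore p ↥(Subgroup.normalizer ((P : Subgroup G) : Set G)) → (y : G) ∈ (P : Subgroup G) := by
      intro y hy
      have h2 : IsPGroup p ↥((pCore p ↥(Subgroup.normalizer ((P : Subgroup G) : Set G))).map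
          (Subgroup.normalizer ((P : Subgroup G) : Set G)).subtype ⊔ (P : Subgroup G)) := by
        refine IsPGroup.to_sup_of_normal_right' (hcore.map _) P.isPGroup' ?_
        rintro _ ⟨z, -, rfl⟩
        exact z.2
      have h3 := P.is_maximal' h2 le_sup_right
      exact h3.le (le_sup_left (a := (pCore p ↥(Subgroup.normalizer ((P : Subgroup G) : Set G))).map
          (Subgroup.normalizer ((P : Subgroup G) : Set G)).subtype) ⟨y, hy, rfl⟩)
    have h1 : (⟨c, hcN⟩ : ↥(Subgroup.normalizer ((P : Subgroup G) : Set G))) ∈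
        pCore p ↥(Subgroup.normalizer ((P : Subgroup G) : Set G)) := by
      apply h0
      rw [Subgroup.mem_centralizer_iff]
      intro y hy
      exact Subtype.ext (Subgroup.mem_centralizer_iff.1 hcP y (hcoreP y hy))
    obtain ⟨k, hk⟩ := hcore ⟨_, h1⟩
    have h2 : c ^ p ^ k = 1 := by
      have := congrArg (fun z => ((z : ↥(Subgroup.normalizer ((P : Subgroup G) : Set G))) : G)) (congrArg Subtype.val hk)
      simpa using this
    rw [eq_one_of_pow hc h2]
    exact one_mem _
  · intro z hz
    rw [hcen, Subgroup.mem_bot] at hz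
    rw [hz, orderOf_one]
    exact hp.one_lt.ne' ∘ Nat.dvd_one.1

end Abstract

/-- Connectedness of an explicit diagram. -/
theorem conn_of_bool {l : ℕ} {M : CoxeterMatrix (Fin l)}
    (h : ∀ f : Fin l → Bool, (∃ a, f a = true) → (∃ a, f a = false) →
      ∃ a, f a = true ∧ ∃ b, f b = false ∧ M a b ≠ 2) : Conn M := by
  classical
  intro J h1 h2
  obtain ⟨b, hb⟩ := (Set.ne_univ_iff_exists_notMem J).1 h2
  obtain ⟨a, ha, b, hb, hab⟩ := h (fun k => decide (k ∈ J)) ⟨h1.choose, decide_eq_true h1.choose_spec⟩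
    ⟨b, decide_eq_false hb⟩
  exact ⟨a, of_decide_eq_true ha, b, of_decide_eq_false hb, hab⟩

theorem noCent_of_center {I W Y : Type*} [Fintype I] [DecidableEq I] [Group W] [Group Y] {M : CoxeterMatrix I}
    {cs : CoxeterSystem M W} {A : I → I → ℤ} {h : IsCartan M A} {T : Subgroup Y} {X : (I → ℤ) → Subgroup Y}
    (hG : RGD.Sup X {x | IsRoot cs h x} = ⊤) (hc : Subgroup.center Y = ⊥) :
    KFacts.RgdCent.NoCent cs h T X := by
  intro t _ ht
  rw [← Subgroup.mem_bot, ← hc, Subgroup.mem_center_iff]
  intro g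
  have h1 : (⊤ : Subgroup Y) ≤ Subgroup.centralizer {t} := by
    rw [← hG]
    refine RGD.Sup_le fun x hx v hv => ?_
    rw [Subgroup.mem_centralizer_singleton_iff]
    exact (ht x hx v hv).symm
  exact Subgroup.mem_centralizer_singleton_iff.1 (h1 (Subgroup.mem_top g))

section Chev

variable {D : ChevalleyDatum} {l : ℕ} {M : CoxeterMatrix (Fin l)} (hp : IsType D l M) {K : Type u} [Field K]
  [Finite K] (p : ℕ) [Fact p.Prime] [CharP K p]

include hp in
/-- **`p`-local subgroups of a Chevalley group of characteristic `p` have characteristic `p`.** -/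
theorem local_char (hconn : Conn M) {Q : Subgroup ↥(D.group K)} (hQ : IsPGroup p Q) (hQ1 : Q ≠ ⊥) :
    Subgroup.centralizer (pCore p ↥(Subgroup.normalizer (Q : Set ↥(D.group K))) :
      Set ↥(Subgroup.normalizer (Q : Set ↥(D.group K)))) ≤
      pCore p ↥(Subgroup.normalizer (Q : Set ↥(D.group K))) := by
  have : Finite M.Group := finite_W hp M.toCoxeterSystem
  have hG1 := G1_eq_top (K := K) hp M.toCoxeterSystem
  have R := rgd (K := K) hp M.toCoxeterSystem p
  have hBT : BT M.toCoxeterSystem hp.isCartan p ((D.diagonalSubgroup K).subgroupOf (D.group K))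
      (fun x => (XV D l K x).subgroupOf (D.group K)) := fun Q hQ hQ1 =>
    KFacts.RgdBorelTits.borel_tits (KFacts.RgdFiltChev.filt (K := K) hp M.toCoxeterSystem p)
      (KFacts.RgdFilt.GG_eq_top hG1) hQ hQ1
  exact KFacts.RgdCharP.local_char R hBT (KFacts.RgdFilt.GG_eq_top hG1)
    (noCent_of_center hG1 (S1077.center_group_eq_bot hp.inList)) hconn hQ hQ1

include hp in
theorem card_blocks (hl : 0 < l) (hconn : Conn M) {𝓜 : Ideal AlgInt} (hM : IsPModular p 𝓜) :
    Nat.card {B : Set (IrrCharacter ↥(D.group K)) // IsPBlock 𝓜 B} = 2 := by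
  have hpp : p.Prime := Fact.out
  have hcen := S1077.center_group_eq_bot (K := K) hp.inList
  obtain ⟨χ, hχ, hQ⟩ := H163.SteinbergRGD.exists_irr_of_hasRGD (hasRGD_group hp K p) hcen
  obtain ⟨P⟩ : Nonempty (Sylow p ↥(D.group K)) := inferInstance
  have hdeg : charDegree χ = Nat.card P := by
    unfold charDegree
    rw [(hQ P).1]
    simp
  have hdvd : p ∣ Nat.card ↥(D.group K) := by
    have hr : D.simple 0 < D.nroots := simple_lt hp.inList (lt_rank hp ⟨0, hl⟩)
    have hpow : ∀ k : ℕ, (xG hp.inList (D.simple 0) (1 : K)) ^ k = xG hp.inList (D.simple 0) (k : K) := by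
      intro k
      induction k with
      | zero => rw [pow_zero, Nat.cast_zero, xG_zero]
      | succ k ih => rw [pow_succ, ih, xG_add, Nat.cast_succ]
    have h1 : orderOf (⟨xG hp.inList (D.simple 0) (1 : K), xG_mem_group _ _ _⟩ : ↥(D.group K)) = p := by
      apply orderOf_eq_prime
      · apply Subtype.ext
        show (xG hp.inList (D.simple 0) (1 : K)) ^ p = 1
        rw [hpow, CharP.cast_eq_zero, xG_zero]
      · intro h
        have h2 := (xG_eq_one_iff hp.inList hr (1 : K)).1 (congrArg Subtype.val h)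
        exact one_ne_zero h2
    rw [← h1]
    exact orderOf_dvd_natCard _
  refine card_eq_two hM hdvd (fun Q hQ hQ1 => local_char hp p hconn hQ hQ1) hcen ⟨χ, hχ⟩ ?_ ?_
  · show ¬ p ∣ Nat.card ↥(D.group K) / charDegree χ
    rw [not_dvd_iff hχ, hdeg, P.card_eq_multiplicity, hpp.factorization_pow]
    simp
  · intro ψ hψ
    refine Subtype.ext ?_
    refine ChevDefZero.eq_of_defect_zero hp.inList p ψ.2 hχ hψ ?_
    rw [not_dvd_iff hχ, hdeg, P.card_eq_multiplicity, hpp.factorization_pow]
    simp

end Chev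

set_option backward.isDefEq.respectTransparency false in
theorem conn_G2 : Conn CoxeterMatrix.G₂ := conn_of_bool (by decide +kernel)
set_option backward.isDefEq.respectTransparency false in
theorem conn_F4 : Conn CoxeterMatrix.F₄ := conn_of_bool (by decide +kernel)
set_option backward.isDefEq.respectTransparency false in
theorem conn_E8 : Conn CoxeterMatrix.E₈ := conn_of_bool (by decide +kernel)

end Cfsg.Agent.H143.ChevBlocks
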